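import Mathlib
import Cfsg.Prelude.Def_Blocks
import Cfsg.Agent.Characters.Core
import Cfsg.Agent.Characters.Linear
import Cfsg.Agent.Characters.Ito
import Cfsg.Agent.CharDeep.CliffordCorr
import Cfsg.Agent.Blocks.Deflate
import Cfsg.Agent.S0134
import Cfsg.Agent.H604.FS

/-!
# Groups with average character degree at most two

`dd G = ∑ (χ(1) - 2)`.

* `dd_quotient` : `dd G ≤ 0` passes to quotients.
* `prime_index` : if `G` has an abelian normal subgroup of prime index `l` and `dd G ≤ 0` then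
  `(l - 2) |G'| ≤ (l + 2) (l - 1)`.
* `frobenius` : the Frobenius case.
-/

set_option autoImplicit false
open Cfsg

namespace Cfsg.Agent.H604.Acd

open Cfsg.Agent.Characters.Core
open scoped ComplexConjugate

universe u v

/-- `∑ (χ(1) - 2)` over the irreducible characters. -/
noncomputable def dd (G : Type u) [Group G] : ℤ :=
  ∑ᶠ χ : IrrCharacter G, ((charDegree (χ : G → ℂ) : ℤ) - 2)

theorem dd_eq {G : Type u} [Group G] [Fintype (IrrCharacter G)] :
    dd G = ∑ χ : IrrCharacter G, ((charDegree (χ : G → ℂ) : ℤ) - 2) :=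
  finsum_eq_sum_of_fintype _

theorem coe_deg {G : Type u} [Group G] (χ : IrrCharacter G) :
    (χ : G → ℂ) 1 = charDegree (χ : G → ℂ) := by
  obtain ⟨n, -, hn⟩ := isIrr_apply_one χ.2
  unfold charDegree
  rw [hn]
  simp

theorem deg_pos {G : Type u} [Group G] (χ : IrrCharacter G) : 0 < charDegree (χ : G → ℂ) := by
  rcases Nat.eq_zero_or_pos (charDegree (χ : G → ℂ)) with h | h
  · exfalso
    apply isIrr_apply_one_ne_zero χ.2
    rw [coe_deg, h, Nat.cast_zero]
  · exact h

theorem deg_eq_one_iff {G : Type u} [Group G] (χ : IrrCharacter G) :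
    charDegree (χ : G → ℂ) = 1 ↔ ∃ f : G →* ℂˣ, (χ : G → ℂ) = fun g => (f g : ℂ) := by
  constructor
  · intro h
    exact Characters.Linear.exists_hom_of_isIrrCharacter χ.2 (by rw [coe_deg, h, Nat.cast_one])
  · rintro ⟨f, hf⟩
    have h := coe_deg χ
    rw [hf] at h
    simp only [map_one, Units.val_one] at h
    rw [hf]
    exact_mod_cast h.symm

section basic

variable {G : Type u} [Group G] [Finite G]

theorem sum_sq [Fintype (IrrCharacter G)] :
    ∑ χ : IrrCharacter G, charDegree (χ : G → ℂ) ^ 2 = Nat.card G := by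
  have h := Cfsg.Agent.S0134.result (G := G)
  rw [finsum_eq_sum_of_fintype] at h
  have h2 : ((∑ χ : IrrCharacter G, charDegree (χ : G → ℂ) ^ 2 : ℕ) : ℂ) = (Nat.card G : ℂ) := by
    rw [← h]
    push_cast
    exact Finset.sum_congr rfl fun χ _ => by rw [coe_deg]
  exact_mod_cast h2

/-- The hypothesis in terms of `dd`. -/
theorem dd_nonpos_iff : (∑ᶠ χ : IrrCharacter G, charDegree (χ : G → ℂ)) ≤
    2 * Nat.card (IrrCharacter G) ↔ dd G ≤ 0 := by
  have hfin : Finite (IrrCharacter G) := finite_irr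
  have := Fintype.ofFinite (IrrCharacter G)
  rw [dd_eq, finsum_eq_sum_of_fintype, Finset.sum_sub_distrib, Finset.sum_const, Finset.card_univ,
    Nat.card_eq_fintype_card, nsmul_eq_mul]
  constructor
  · intro h
    have h' : ((∑ χ : IrrCharacter G, charDegree (χ : G → ℂ) : ℕ) : ℤ) ≤
        ((2 * Fintype.card (IrrCharacter G) : ℕ) : ℤ) := by exact_mod_cast h
    push_cast at h'
    linarith
  · intro h
    have h' : ((∑ χ : IrrCharacter G, charDegree (χ : G → ℂ) : ℕ) : ℤ) ≤
        ((2 * Fintype.card (IrrCharacter G) : ℕ) : ℤ) := by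
      push_cast
      linarith
    exact_mod_cast h'

/-- The number of linear characters. -/
theorem card_linear [Fintype (IrrCharacter G)]
    [DecidablePred fun χ : IrrCharacter G => charDegree (χ : G → ℂ) = 1] :
    (Finset.univ.filter fun χ : IrrCharacter G => charDegree (χ : G → ℂ) = 1).card =
      (commutator G).index := by
  classical
  rw [← Characters.Linear.card_hom_eq_index_commutator,
    Nat.card_congr (Characters.Linear.linearEquiv G), Nat.card_eq_fintype_card,
    Fintype.card_subtype]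
  congr 1
  ext χ
  simp only [Finset.mem_filter, Finset.mem_univ, true_and]
  rw [coe_deg]
  norm_cast

end basic

/-! ### Isomorphisms and quotients -/

theorem charDegree_comp {G : Type u} {H : Type v} [Group G] [Group H] (f : G →* H) (χ : H → ℂ) :
    charDegree (χ ∘ f) = charDegree χ := by
  unfold charDegree
  rw [Function.comp_apply, map_one]

theorem dd_congr {G : Type u} {H : Type v} [Group G] [Group H] (e : G ≃* H) : dd G = dd H := by
  unfold dd
  have hcomp : ∀ χ : IrrCharacter H, IsIrrCharacter G ((χ : H → ℂ) ∘ e) := fun χ =>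
    isIrr_comp (e : G →* H) e.surjective χ.2
  have hcomp' : ∀ χ : IrrCharacter G, IsIrrCharacter H ((χ : G → ℂ) ∘ e.symm) := fun χ =>
    isIrr_comp (e.symm : H →* G) e.symm.surjective χ.2
  let E : IrrCharacter G ≃ IrrCharacter H :=
    { toFun := fun χ => ⟨_, hcomp' χ⟩
      invFun := fun χ => ⟨_, hcomp χ⟩
      left_inv := fun χ => Subtype.ext (funext fun g => by simp)
      right_inv := fun χ => Subtype.ext (funext fun g => by simp) }
  refine finsum_eq_of_bijective E E.bijective fun χ => ?_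
  have h : charDegree ((E χ : IrrCharacter H) : H → ℂ) = charDegree (χ : G → ℂ) :=
    charDegree_comp (e.symm : H →* G) (χ : G → ℂ)
  rw [h]

/-- The irreducible characters of a quotient. -/
theorem exists_equiv_quotient {G : Type u} [Group G] [Finite G] (N : Subgroup G) [N.Normal] :
    ∃ E : IrrCharacter (G ⧸ N) ≃ {χ : IrrCharacter G // ∀ n ∈ N, (χ : G → ℂ) n = (χ : G → ℂ) 1},
      ∀ χ, ((E χ).1 : G → ℂ) = (χ : G ⧸ N → ℂ) ∘ QuotientGroup.mk := by
  classical
  have := Fintype.ofFinite N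
  have hsurj : Function.Surjective (QuotientGroup.mk' N) := QuotientGroup.mk'_surjective N
  let F : IrrCharacter (G ⧸ N) →
      {χ : IrrCharacter G // ∀ n ∈ N, (χ : G → ℂ) n = (χ : G → ℂ) 1} := fun χ =>
    ⟨⟨(χ : G ⧸ N → ℂ) ∘ QuotientGroup.mk' N, isIrr_comp (QuotientGroup.mk' N) hsurj χ.2⟩,
      fun n hn => by
        show (χ : G ⧸ N → ℂ) (QuotientGroup.mk' N n) = (χ : G ⧸ N → ℂ) (QuotientGroup.mk' N 1)
        have h1 : QuotientGroup.mk' N n = 1 := (QuotientGroup.eq_one_iff n).2 hn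
        rw [map_one, h1]⟩
  have hF : Function.Bijective F := by
    constructor
    · intro χ χ' h
      apply Subtype.ext
      funext x
      obtain ⟨g, rfl⟩ := hsurj x
      exact congrFun (congrArg (fun y => (y.1 : IrrCharacter G).1) h) g
    · rintro ⟨χ, hχ⟩
      have hsum : ∑ n : N, (χ : G → ℂ) n ≠ 0 := by
        rw [Finset.sum_congr rfl (fun (n : N) _ => hχ (n : G) n.2), Finset.sum_const,
          Finset.card_univ, nsmul_eq_mul]
        refine mul_ne_zero ?_ (isIrr_apply_one_ne_zero χ.2)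
        exact_mod_cast Fintype.card_ne_zero
      obtain ⟨χ', hχ'⟩ := Blocks.Deflate.exists_deflation N (χ : G → ℂ) χ.2 hsum
      exact ⟨χ', Subtype.ext (Subtype.ext hχ'.symm)⟩
  exact ⟨Equiv.ofBijective F hF, fun χ => rfl⟩

theorem dd_quotient_eq {G : Type u} [Group G] [Finite G] (N : Subgroup G) [N.Normal]
    [Fintype (IrrCharacter G)]
    [DecidablePred fun χ : IrrCharacter G => ∀ n ∈ N, (χ : G → ℂ) n = (χ : G → ℂ) 1] :
    dd (G ⧸ N) = ∑ χ ∈ Finset.univ.filter (fun χ : IrrCharacter G =>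
      ∀ n ∈ N, (χ : G → ℂ) n = (χ : G → ℂ) 1), ((charDegree (χ : G → ℂ) : ℤ) - 2) := by
  classical
  obtain ⟨E, hE⟩ := exists_equiv_quotient N
  have hfin : Finite (IrrCharacter (G ⧸ N)) := finite_irr
  have := Fintype.ofFinite (IrrCharacter (G ⧸ N))
  rw [dd_eq, Finset.sum_subtype (p := fun χ : IrrCharacter G =>
      ∀ n ∈ N, (χ : G → ℂ) n = (χ : G → ℂ) 1) (Finset.univ.filter (fun χ : IrrCharacter G =>
      ∀ n ∈ N, (χ : G → ℂ) n = (χ : G → ℂ) 1)) (fun χ => by simp)]
  refine Fintype.sum_equiv E _ _ fun χ => ?_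
  rw [hE]
  have h : charDegree ((χ : G ⧸ N → ℂ) ∘ (QuotientGroup.mk : G → G ⧸ N)) =
      charDegree (χ : G ⧸ N → ℂ) := charDegree_comp (QuotientGroup.mk' N) _
  rw [h]

/-- `dd G ≤ 0` passes to quotients. -/
theorem dd_quotient {G : Type u} [Group G] [Finite G] (N : Subgroup G) [N.Normal]
    (h : dd G ≤ 0) : dd (G ⧸ N) ≤ 0 := by
  classical
  have hfin : Finite (IrrCharacter G) := finite_irr
  have := Fintype.ofFinite (IrrCharacter G)
  have hDfin : Finite (G →* ℂˣ) := by
    refine Nat.finite_of_card_ne_zero ?_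
    rw [Characters.Linear.card_hom_eq_index_commutator]
    exact Subgroup.index_ne_zero_of_finite
  have := Fintype.ofFinite (G →* ℂˣ)
  let tw : (G →* ℂˣ) → IrrCharacter G → IrrCharacter G := fun f χ =>
    ⟨fun g => (f g : ℂ) * (χ : G → ℂ) g, FS.isIrr_hom_mul f χ.2⟩
  have tw_inv : ∀ f χ, tw f⁻¹ (tw f χ) = χ := fun f χ => Subtype.ext (funext fun g => by
    show ((f⁻¹ g : ℂˣ) : ℂ) * ((f g : ℂ) * (χ : G → ℂ) g) = _
    rw [MonoidHom.inv_apply, ← mul_assoc, ← Units.val_mul, inv_mul_cancel, Units.val_one, one_mul])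
  have tw_inv' : ∀ f χ, tw f (tw f⁻¹ χ) = χ := fun f χ => Subtype.ext (funext fun g => by
    show (f g : ℂ) * (((f⁻¹ g : ℂˣ) : ℂ) * (χ : G → ℂ) g) = _
    rw [MonoidHom.inv_apply, ← mul_assoc, ← Units.val_mul, mul_inv_cancel, Units.val_one, one_mul])
  let I : IrrCharacter G → Prop := fun χ => ∀ n ∈ N, (χ : G → ℂ) n = (χ : G → ℂ) 1
  let w : IrrCharacter G → ℤ := fun χ => (charDegree (χ : G → ℂ) : ℤ) - 2
  have hw : ∀ f χ, w (tw f χ) = w χ := by
    intro f χ
    have h1 : ((tw f χ : IrrCharacter G) : G → ℂ) 1 = (χ : G → ℂ) 1 := by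
      show (f 1 : ℂ) * (χ : G → ℂ) 1 = _
      rw [map_one, Units.val_one, one_mul]
    rw [coe_deg, coe_deg] at h1
    have h2 : charDegree ((tw f χ : IrrCharacter G) : G → ℂ) = charDegree (χ : G → ℂ) := by
      exact_mod_cast h1
    simp only [w, h2]
  let c : IrrCharacter G → ℕ := fun χ => (Finset.univ.filter fun f : G →* ℂˣ => I (tw f χ)).card
  let n : ℕ := (Finset.univ.filter fun f : G →* ℂˣ => ∀ x ∈ N, f x = 1).card
  have hn : 0 < n := Finset.card_pos.2 ⟨1, by simp⟩
  have hc1 : ∀ χ, c χ ≠ 0 → c χ = n := by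
    intro χ hχ
    obtain ⟨f₀, hf₀⟩ := Finset.card_ne_zero.1 hχ
    have hf₀' : I (tw f₀ χ) := (Finset.mem_filter.1 hf₀).2
    refine Finset.card_bij (fun f _ => f * f₀⁻¹) ?_ ?_ ?_
    · intro f hf
      have hf' : I (tw f χ) := (Finset.mem_filter.1 hf).2
      simp only [Finset.mem_filter, Finset.mem_univ, true_and]
      intro x hx
      have e1 : (f x : ℂ) * (χ : G → ℂ) x = (χ : G → ℂ) 1 := by
        have := hf' x hx
        change (f x : ℂ) * (χ : G → ℂ) x = (f 1 : ℂ) * (χ : G → ℂ) 1 at this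
        rwa [map_one, Units.val_one, one_mul] at this
      have e2 : (f₀ x : ℂ) * (χ : G → ℂ) x = (χ : G → ℂ) 1 := by
        have := hf₀' x hx
        change (f₀ x : ℂ) * (χ : G → ℂ) x = (f₀ 1 : ℂ) * (χ : G → ℂ) 1 at this
        rwa [map_one, Units.val_one, one_mul] at this
      have e3 : (χ : G → ℂ) x ≠ 0 := by
        intro h0
        rw [h0, mul_zero] at e1
        exact isIrr_apply_one_ne_zero χ.2 e1.symm
      have e4 : (f x : ℂ) = (f₀ x : ℂ) := mul_right_cancel₀ e3 (e1.trans e2.symm)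
      rw [MonoidHom.mul_apply, MonoidHom.inv_apply, Units.ext e4, mul_inv_cancel]
    · intro f _ f' _ hff
      exact mul_right_cancel hff
    · intro f hf
      have hf' := (Finset.mem_filter.1 hf).2
      refine ⟨f * f₀, ?_, MonoidHom.ext fun x => by
        rw [MonoidHom.mul_apply, MonoidHom.mul_apply, MonoidHom.inv_apply, mul_inv_cancel_right]⟩
      simp only [Finset.mem_filter, Finset.mem_univ, true_and]
      intro x hx
      have := hf₀' x hx
      change (f₀ x : ℂ) * (χ : G → ℂ) x = (f₀ 1 : ℂ) * (χ : G → ℂ) 1 at this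
      show ((f * f₀) x : ℂ) * (χ : G → ℂ) x = ((f * f₀) 1 : ℂ) * (χ : G → ℂ) 1
      rw [MonoidHom.mul_apply, hf' x hx, one_mul, this, map_one, map_one]
  have hc0 : ∀ χ, c χ = 0 → 0 ≤ w χ := by
    intro χ hχ
    by_contra hneg
    have h1 : charDegree (χ : G → ℂ) = 1 := by
      have := deg_pos χ
      simp only [w] at hneg
      omega
    obtain ⟨f, hf⟩ := (deg_eq_one_iff χ).1 h1
    have h2 : I (tw f⁻¹ χ) := by
      have : ∀ x, ((tw f⁻¹ χ : IrrCharacter G) : G → ℂ) x = 1 := by
        intro x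
        show ((f⁻¹ x : ℂˣ) : ℂ) * (χ : G → ℂ) x = 1
        rw [hf, MonoidHom.inv_apply, ← Units.val_mul, inv_mul_cancel, Units.val_one]
      intro x _
      rw [this, this]
    exact absurd hχ (Finset.card_ne_zero.2 ⟨f⁻¹, Finset.mem_filter.2 ⟨Finset.mem_univ _, h2⟩⟩)
  have hsum : ∑ χ : IrrCharacter G, w χ * c χ = Fintype.card (G →* ℂˣ) * dd (G ⧸ N) := by
    have e1 : ∀ χ : IrrCharacter G, w χ * c χ = ∑ f : G →* ℂˣ, if I (tw f χ) then w χ else 0 := by
      intro χ
      rw [← Finset.sum_filter, Finset.sum_const, nsmul_eq_mul, mul_comm]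
    rw [Finset.sum_congr rfl fun χ _ => e1 χ, Finset.sum_comm, dd_quotient_eq, Finset.sum_filter]
    have e2 : ∀ f : G →* ℂˣ, (∑ χ : IrrCharacter G, if I (tw f χ) then w χ else 0) =
        ∑ χ : IrrCharacter G, if I χ then w χ else 0 := by
      intro f
      refine Fintype.sum_equiv ⟨tw f, tw f⁻¹, tw_inv f, tw_inv' f⟩ _ _ fun χ => ?_
      show (if I (tw f χ) then w χ else 0) = (if I (tw f χ) then w (tw f χ) else 0)
      rw [hw]
    rw [Finset.sum_congr rfl fun f _ => e2 f, Finset.sum_const, Finset.card_univ, nsmul_eq_mul]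
  have hle : ∑ χ : IrrCharacter G, w χ * c χ ≤ n * dd G := by
    rw [dd_eq, Finset.mul_sum]
    refine Finset.sum_le_sum fun χ _ => ?_
    show w χ * c χ ≤ n * w χ
    by_cases h0 : c χ = 0
    · rw [h0, Nat.cast_zero, mul_zero]
      exact mul_nonneg (by positivity) (hc0 χ h0)
    · rw [hc1 χ h0, mul_comm]
  rw [hsum] at hle
  have h1 : (Fintype.card (G →* ℂˣ) : ℤ) * dd (G ⧸ N) ≤ 0 :=
    hle.trans (mul_nonpos_of_nonneg_of_nonpos (by positivity) h)
  have h2 : (0 : ℤ) < Fintype.card (G →* ℂˣ) := by exact_mod_cast Fintype.card_pos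
  by_contra h3
  push Not at h3
  have := mul_pos h2 h3
  linarith

/-! ### Abelian normal subgroups -/

theorem deg_dvd_index {G : Type u} [Group G] [Finite G] (A : Subgroup G) [A.Normal]
    (hA : ∀ a ∈ A, ∀ b ∈ A, a * b = b * a) (χ : IrrCharacter G) :
    charDegree (χ : G → ℂ) ∣ A.index := by
  obtain ⟨n, ρ, hρ, hχ⟩ := χ.2
  have : ρ.IsIrreducible := hρ
  have h1 := Characters.Ito.finrank_dvd_index ρ A hA
  have h2 := coe_deg χ
  rw [← hχ, Representation.char_one] at h2
  rw [← hχ]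
  have h3 : Module.finrank ℂ (Fin n → ℂ) = charDegree (ρ.character) := by exact_mod_cast h2
  rwa [h3] at h1

/-- An abelian normal subgroup of prime index. -/
theorem prime_index {G : Type u} [Group G] [Finite G] (A : Subgroup G) [A.Normal]
    (hA : ∀ a ∈ A, ∀ b ∈ A, a * b = b * a) {l : ℕ} (hl : l.Prime) (h3 : 3 ≤ l) (hi : A.index = l)
    (h : dd G ≤ 0) : (l - 2) * Nat.card (commutator G) ≤ (l + 2) * (l - 1) := by
  classical
  have hfin : Finite (IrrCharacter G) := finite_irr
  have := Fintype.ofFinite (IrrCharacter G)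
  have hdeg : ∀ χ : IrrCharacter G, charDegree (χ : G → ℂ) = 1 ∨ charDegree (χ : G → ℂ) = l := by
    intro χ
    have := deg_dvd_index A hA χ
    rw [hi] at this
    exact (Nat.dvd_prime hl).1 this
  set n₁ := (Finset.univ.filter fun χ : IrrCharacter G => charDegree (χ : G → ℂ) = 1).card
    with hn₁
  set n₂ := (Finset.univ.filter fun χ : IrrCharacter G => ¬ charDegree (χ : G → ℂ) = 1).card
    with hn₂
  have h1 : Nat.card G = n₁ + l ^ 2 * n₂ := by
    rw [← sum_sq, ← Finset.sum_filter_add_sum_filter_not Finset.univ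
      (fun χ : IrrCharacter G => charDegree (χ : G → ℂ) = 1)]
    rw [Finset.sum_congr rfl (g := fun _ => 1) (fun χ hχ => by
        rw [(Finset.mem_filter.1 hχ).2]; rfl),
      Finset.sum_congr (s₁ := Finset.univ.filter fun χ : IrrCharacter G =>
        ¬ charDegree (χ : G → ℂ) = 1) rfl (g := fun _ => l ^ 2) (fun χ hχ => by
        rw [(hdeg χ).resolve_left (Finset.mem_filter.1 hχ).2]), Finset.sum_const, Finset.sum_const,
      smul_eq_mul, smul_eq_mul, mul_one, mul_comm (l ^ 2)]
  have h2 : dd G = -(n₁ : ℤ) + ((l : ℤ) - 2) * n₂ := by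
    rw [dd_eq, ← Finset.sum_filter_add_sum_filter_not Finset.univ
      (fun χ : IrrCharacter G => charDegree (χ : G → ℂ) = 1)]
    rw [Finset.sum_congr rfl (g := fun _ => (-1 : ℤ)) (fun χ hχ => by
        rw [(Finset.mem_filter.1 hχ).2]; rfl),
      Finset.sum_congr (s₁ := Finset.univ.filter fun χ : IrrCharacter G =>
        ¬ charDegree (χ : G → ℂ) = 1) rfl (g := fun _ => (l : ℤ) - 2) (fun χ hχ => by
        rw [(hdeg χ).resolve_left (Finset.mem_filter.1 hχ).2]), Finset.sum_const, Finset.sum_const,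
      nsmul_eq_mul, nsmul_eq_mul]
    ring
  have h4 : Nat.card (commutator G) * n₁ = Nat.card G := by
    rw [hn₁, card_linear]
    exact (commutator G).card_mul_index
  have h5 : 0 < n₁ := by
    rw [hn₁, card_linear]
    exact Nat.pos_of_ne_zero Subgroup.index_ne_zero_of_finite
  obtain ⟨m, rfl⟩ : ∃ m, l = m + 2 := ⟨l - 2, by omega⟩
  rw [h2] at h
  push_cast at h
  have h6 : m * n₂ ≤ n₁ := by
    have : (m : ℤ) * n₂ ≤ n₁ := by linarith
    exact_mod_cast this
  rw [h1] at h4
  simp only [Nat.add_sub_cancel]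
  have e : m + 2 - 1 = m + 1 := by omega
  rw [e]
  refine Nat.le_of_mul_le_mul_right ?_ h5
  calc m * Nat.card (commutator G) * n₁ = m * (Nat.card (commutator G) * n₁) := by ring
    _ = m * n₁ + (m + 2) ^ 2 * (m * n₂) := by rw [h4]; ring
    _ ≤ m * n₁ + (m + 2) ^ 2 * n₁ := by gcongr
    _ = (m + 2 + 2) * (m + 1) * n₁ := by ring

/-- A nonabelian group with an abelian normal subgroup of prime index `l` has an irreducible
character of degree `l`. -/
theorem exists_deg_prime {G : Type u} [Group G] [Finite G] (A : Subgroup G) [A.Normal]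
    (hA : ∀ a ∈ A, ∀ b ∈ A, a * b = b * a) {l : ℕ} (hl : l.Prime) (hi : A.index = l)
    (hna : commutator G ≠ ⊥) : ∃ χ : IrrCharacter G, charDegree (χ : G → ℂ) = l := by
  classical
  by_contra hcon
  push Not at hcon
  have hfin : Finite (IrrCharacter G) := finite_irr
  have := Fintype.ofFinite (IrrCharacter G)
  have hdeg : ∀ χ : IrrCharacter G, charDegree (χ : G → ℂ) = 1 := by
    intro χ
    have := deg_dvd_index A hA χ
    rw [hi] at this
    exact ((Nat.dvd_prime hl).1 this).resolve_right (hcon χ)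
  have h1 : (commutator G).index = Nat.card G := by
    rw [← card_linear, ← sum_sq, Finset.filter_true_of_mem (fun χ _ => hdeg χ)]
    rw [Finset.sum_congr rfl (g := fun _ => 1) (fun χ _ => by rw [hdeg χ]; rfl), Finset.sum_const,
      smul_eq_mul, mul_one]
  apply hna
  rw [← Subgroup.card_eq_one]
  have h2 := (commutator G).card_mul_index
  rw [h1] at h2
  exact Nat.eq_of_mul_eq_mul_right (Nat.card_pos (α := G)) (by rw [h2, one_mul])

/-- The degree of an irreducible character is at least the index of the abelian normal subgroup `U`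
in the Frobenius case, if it is not trivial on `U`. -/
theorem index_le_deg {G : Type u} [Group G] [Finite G] (U : Subgroup G) [hUn : U.Normal]
    (hU : ∀ a ∈ U, ∀ b ∈ U, a * b = b * a)
    (hC : ∀ u ∈ U, u ≠ 1 → ∀ g : G, g * u = u * g → g ∈ U) (χ : IrrCharacter G)
    (hχ : ¬ ∀ u ∈ U, (χ : G → ℂ) u = (χ : G → ℂ) 1) : U.index ≤ charDegree (χ : G → ℂ) := by
  classical
  have := Fintype.ofFinite G
  have := Fintype.ofFinite U
  have hfin : Finite (IrrCharacter U) := finite_irr
  have := Fintype.ofFinite (IrrCharacter U)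
  let _ : CommGroup U := { (inferInstance : Group U) with
    mul_comm := fun a b => Subtype.ext (hU a a.2 b b.2) }
  have hres : IsCharacter U (fun n : U => (χ : G → ℂ) n) :=
    Characters.Clifford.isCharacter_restrict U (isIrr_isCharacter χ.2)
  obtain ⟨m, hm⟩ := exists_nat_comb hres
  -- the irreducible characters of `U` are linear
  have hlin : ∀ ψ : IrrCharacter U, (ψ : U → ℂ) 1 = 1 := by
    intro ψ
    have h1 := deg_dvd_index (⊤ : Subgroup U) (fun a _ b _ => mul_comm a b) ψ
    rw [Subgroup.index_top, Nat.dvd_one] at h1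
    rw [coe_deg, h1, Nat.cast_one]
  -- a nonprincipal constituent
  obtain ⟨ψ, hψ1, hψm⟩ : ∃ ψ : IrrCharacter U, (ψ : U → ℂ) ≠ 1 ∧ m ψ ≠ 0 := by
    by_contra hcon
    push Not at hcon
    apply hχ
    intro u hu
    have e1 : ∀ x : U, (χ : G → ℂ) x = ∑ ψ : IrrCharacter U, (m ψ : ℂ) := by
      intro x
      have h1 := congrFun hm x
      simp only [Finset.sum_apply, Pi.smul_apply, nsmul_eq_mul] at h1
      rw [h1]
      refine Finset.sum_congr rfl fun ψ _ => ?_
      show (m ψ : ℂ) * (ψ : U → ℂ) x = m ψ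
      by_cases h2 : (ψ : U → ℂ) = 1
      · rw [h2, Pi.one_apply, mul_one]
      · rw [hcon ψ h2, Nat.cast_zero, zero_mul]
    have e2 := e1 ⟨u, hu⟩
    have e3 := e1 1
    rw [e2]
    exact e3.symm
  have hcl : classInner (fun n : U => (χ : G → ℂ) n) (ψ : U → ℂ) = (m ψ : ℂ) := by
    rw [hm]
    exact classInner_sum_nsmul_irr _ _
  obtain ⟨f, hf⟩ := Characters.Linear.exists_hom_of_isIrrCharacter ψ.2 (hlin ψ)
  -- the inertia group is `U`
  have hT : ∀ g : G, g ∈ U ↔ ∀ n : U, (ψ : U → ℂ) ⟨g * n * g⁻¹, hUn.conj_mem (n : G) n.2 g⟩ =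
      (ψ : U → ℂ) n := by
    intro g
    constructor
    · intro hg n
      have h1 : (⟨g * n * g⁻¹, hUn.conj_mem (n : G) n.2 g⟩ : U) = n := by
        apply Subtype.ext
        show g * n * g⁻¹ = n
        rw [hU g hg n n.2]
        group
      rw [h1]
    · intro hinv
      by_contra hg
      apply hψ1
      -- the map `n ↦ g n g⁻¹ n⁻¹` is surjective on `U`
      let κ : U → U := fun n => ⟨g * n * g⁻¹, hUn.conj_mem (n : G) n.2 g⟩ * n⁻¹
      have hinj : Function.Injective κ := by
        intro n n' h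
        have h1 : g * n * g⁻¹ * (n : G)⁻¹ = g * n' * g⁻¹ * (n' : G)⁻¹ := congrArg Subtype.val h
        have h2 : g * ((n' : G)⁻¹ * n) = ((n' : G)⁻¹ * n) * g := by
          have e1 : g * (n : G) * g⁻¹ ∈ U := hUn.conj_mem (n : G) n.2 g
          have e2 : g * (n' : G) * g⁻¹ ∈ U := hUn.conj_mem (n' : G) n'.2 g
          have e3 : (g * (n' : G) * g⁻¹)⁻¹ * (g * (n : G) * g⁻¹) = (n' : G)⁻¹ * n := by
            have e4 : g * (n : G) * g⁻¹ = g * n' * g⁻¹ * (n' : G)⁻¹ * n := by
              rw [← h1]; group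
            rw [e4]; group
          calc g * ((n' : G)⁻¹ * n) = ((g * (n' : G) * g⁻¹)⁻¹ * (g * (n : G) * g⁻¹)) * g := by group
            _ = _ := by rw [e3]
        by_contra hne
        apply hg
        refine hC ((n' : G)⁻¹ * n) (U.mul_mem (U.inv_mem n'.2) n.2) ?_ g h2
        intro h3
        apply hne
        apply Subtype.ext
        have : (n : G) = n' * ((n' : G)⁻¹ * n) := by group
        rw [this, h3, mul_one]
      have hsurj : Function.Surjective κ := Finite.surjective_of_injective hinj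
      funext x
      obtain ⟨n, rfl⟩ := hsurj x
      rw [hf, Pi.one_apply]
      have h1 := hinv n
      rw [hf] at h1
      simp only at h1
      have h2 : f ⟨g * n * g⁻¹, hUn.conj_mem (n : G) n.2 g⟩ = f n := Units.ext h1
      simp only [κ, map_mul, map_inv, h2, mul_inv_cancel, Units.val_one]
  have h1 := CharDeep.CliffordCorr.index_mul_le_degree U ψ.2 U hT (isIrr_isCharacter χ.2)
    (e := m ψ) (d := 1) (D := charDegree (χ : G → ℂ)) hcl (by rw [hlin, Nat.cast_one]) (coe_deg χ)
  have h2 : 1 ≤ m ψ := Nat.pos_of_ne_zero hψm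
  calc U.index = U.index * (1 * 1) := by ring
    _ ≤ U.index * (m ψ * 1) := by gcongr
    _ ≤ _ := h1

/-- **Frobenius groups** with abelian kernel `U` and abelian complement (index `e`). -/
theorem frobenius {G : Type u} [Group G] [Finite G] (U : Subgroup G) [hUn : U.Normal]
    (hU : ∀ a ∈ U, ∀ b ∈ U, a * b = b * a)
    (hC : ∀ u ∈ U, u ≠ 1 → ∀ g : G, g * u = u * g → g ∈ U) (hcomm : commutator G ≤ U)
    {e k : ℕ} (he : U.index = e) (he2 : 2 ≤ e) (hk : Nat.card U = k * e + 1) :
    dd G = k * ((e : ℤ) - 2) - e := by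
  classical
  have hfin : Finite (IrrCharacter G) := finite_irr
  have := Fintype.ofFinite (IrrCharacter G)
  have hdeg : ∀ χ : IrrCharacter G, (∀ u ∈ U, (χ : G → ℂ) u = (χ : G → ℂ) 1) ∨
      charDegree (χ : G → ℂ) = e := by
    intro χ
    by_cases h : ∀ u ∈ U, (χ : G → ℂ) u = (χ : G → ℂ) 1
    · exact Or.inl h
    · right
      have h1 := index_le_deg U hU hC χ h
      have h2 := Nat.le_of_dvd (by omega) (he ▸ deg_dvd_index U hU χ)
      omega
  -- the characters trivial on `U` are linear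
  have hlin : ∀ χ : IrrCharacter G, (∀ u ∈ U, (χ : G → ℂ) u = (χ : G → ℂ) 1) →
      charDegree (χ : G → ℂ) = 1 := by
    intro χ hχ
    obtain ⟨E, hE⟩ := exists_equiv_quotient U
    obtain ⟨ψ, hψ⟩ := E.surjective ⟨χ, hχ⟩
    have hab : ∀ a b : G ⧸ U, a * b = b * a := by
      intro a b
      obtain ⟨x, rfl⟩ := QuotientGroup.mk'_surjective U a
      obtain ⟨y, rfl⟩ := QuotientGroup.mk'_surjective U b
      rw [← map_mul, ← map_mul]
      rw [QuotientGroup.mk'_eq_mk']
      refine ⟨y⁻¹ * x⁻¹ * y * x, hcomm ?_, by group⟩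
      have : y⁻¹ * x⁻¹ * y * x = y⁻¹ * x⁻¹ * (y⁻¹)⁻¹ * (x⁻¹)⁻¹ := by group
      rw [this]
      exact Subgroup.commutator_mem_commutator (Subgroup.mem_top (y⁻¹)) (Subgroup.mem_top (x⁻¹))
    have h1 := deg_dvd_index (⊤ : Subgroup (G ⧸ U)) (fun a _ b _ => hab a b) ψ
    rw [Subgroup.index_top, Nat.dvd_one] at h1
    have h2 := hE ψ
    rw [hψ] at h2
    have h3 : charDegree ((ψ : G ⧸ U → ℂ) ∘ (QuotientGroup.mk : G → G ⧸ U)) =
      charDegree (ψ : G ⧸ U → ℂ) := charDegree_comp (QuotientGroup.mk' U) _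
    have h4 : (χ : G → ℂ) = (ψ : G ⧸ U → ℂ) ∘ (QuotientGroup.mk : G → G ⧸ U) := h2
    rw [h4, h3, h1]
  have hne : ∀ χ : IrrCharacter G, charDegree (χ : G → ℂ) = 1 ∨ charDegree (χ : G → ℂ) = e := by
    intro χ
    rcases hdeg χ with h | h
    · exact Or.inl (hlin χ h)
    · exact Or.inr h
  set n₁ := (Finset.univ.filter fun χ : IrrCharacter G => charDegree (χ : G → ℂ) = 1).card
    with hn₁
  set n₂ := (Finset.univ.filter fun χ : IrrCharacter G => ¬ charDegree (χ : G → ℂ) = 1).card
    with hn₂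
  have h1 : Nat.card G = n₁ + e ^ 2 * n₂ := by
    rw [← sum_sq, ← Finset.sum_filter_add_sum_filter_not Finset.univ
      (fun χ : IrrCharacter G => charDegree (χ : G → ℂ) = 1)]
    rw [Finset.sum_congr rfl (g := fun _ => 1) (fun χ hχ => by
        rw [(Finset.mem_filter.1 hχ).2]; rfl),
      Finset.sum_congr (s₁ := Finset.univ.filter fun χ : IrrCharacter G =>
        ¬ charDegree (χ : G → ℂ) = 1) rfl (g := fun _ => e ^ 2) (fun χ hχ => by
        rw [(hne χ).resolve_left (Finset.mem_filter.1 hχ).2]), Finset.sum_const, Finset.sum_const,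
      smul_eq_mul, smul_eq_mul, mul_one, mul_comm (e ^ 2)]
  have h2 : dd G = -(n₁ : ℤ) + ((e : ℤ) - 2) * n₂ := by
    rw [dd_eq, ← Finset.sum_filter_add_sum_filter_not Finset.univ
      (fun χ : IrrCharacter G => charDegree (χ : G → ℂ) = 1)]
    rw [Finset.sum_congr rfl (g := fun _ => (-1 : ℤ)) (fun χ hχ => by
        rw [(Finset.mem_filter.1 hχ).2]; rfl),
      Finset.sum_congr (s₁ := Finset.univ.filter fun χ : IrrCharacter G =>
        ¬ charDegree (χ : G → ℂ) = 1) rfl (g := fun _ => (e : ℤ) - 2) (fun χ hχ => by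
        rw [(hne χ).resolve_left (Finset.mem_filter.1 hχ).2]), Finset.sum_const, Finset.sum_const,
      nsmul_eq_mul, nsmul_eq_mul]
    ring
  -- the number of linear characters is `e`
  have h3 : n₁ = e := by
    have e1 : n₁ = Nat.card (IrrCharacter (G ⧸ U)) := by
      obtain ⟨E, hE⟩ := exists_equiv_quotient U
      rw [Nat.card_congr E, Nat.card_eq_fintype_card, Fintype.card_subtype, hn₁]
      congr 1
      ext χ
      simp only [Finset.mem_filter, Finset.mem_univ, true_and]
      refine ⟨fun h => ?_, fun h => hlin χ h⟩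
      rcases hdeg χ with h' | h'
      · exact h'
      · omega
    have hfin' : Finite (IrrCharacter (G ⧸ U)) := finite_irr
    have := Fintype.ofFinite (IrrCharacter (G ⧸ U))
    have e2 : ∀ ψ : IrrCharacter (G ⧸ U), charDegree (ψ : G ⧸ U → ℂ) = 1 := by
      intro ψ
      obtain ⟨E, hE⟩ := exists_equiv_quotient U
      have h4 := hlin (E ψ).1 (E ψ).2
      rw [hE] at h4
      have h5 : charDegree ((ψ : G ⧸ U → ℂ) ∘ (QuotientGroup.mk : G → G ⧸ U)) =
        charDegree (ψ : G ⧸ U → ℂ) := charDegree_comp (QuotientGroup.mk' U) _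
      rwa [h5] at h4
    have e3 := sum_sq (G := G ⧸ U)
    rw [Finset.sum_congr rfl (g := fun _ => 1) (fun χ _ => by rw [e2 χ]; rfl), Finset.sum_const,
      smul_eq_mul, mul_one, Finset.card_univ, ← Nat.card_eq_fintype_card] at e3
    rw [e1, e3]
    exact he
  have h4 : Nat.card G = (k * e + 1) * e := by
    rw [← hk, ← he]
    exact (U.card_mul_index).symm
  have h5 : n₂ = k := by
    rw [h3, h4] at h1
    have e1 : e ^ 2 * k = e ^ 2 * n₂ := by nlinarith
    exact (Nat.eq_of_mul_eq_mul_left (by positivity) e1).symm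
  rw [h2, h3, h5]
  ring

end Cfsg.Agent.H604.Acd
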