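import Mathlib
import Cfsg.Prelude.Def_Blocks
import Cfsg.Agent.Characters.Core
import Cfsg.Agent.Blocks.ClassScalar
import Cfsg.Agent.Blocks.OrbitSum
import Cfsg.Agent.Blocks.LocalRing

/-!
# Central characters off a normal subgroup

`N ≤ Q` normal subgroups of `G`, `N` of order prime to `p`, `P ≤ Q` a `p`-subgroup with
`C_G(P) ≤ Q`, `χ` an irreducible character of `G` whose restrictions to `N` and `Q` have the same
norm (for instance `χ_Q = e ψ` with `ψ_N` irreducible).  Then the central character of `χ` is zero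
modulo `p` off `Q`.
-/

set_option autoImplicit false
open Cfsg

namespace Cfsg.Agent.H604.OverExt

open scoped ComplexConjugate
open Cfsg.Agent.Blocks Cfsg.Agent.Characters.Core

universe u

/-- If the restrictions of a character to `N ≤ Q` have the same norm, an endomorphism commuting with
`N` commutes with `Q`. -/
theorem commute_of_norm_eq {G : Type u} [Group G] {V : Type*} [AddCommGroup V] [Module ℂ V]
    [FiniteDimensional ℂ V] (ρ : Representation ℂ G V) (N Q : Subgroup G) (hNQ : N ≤ Q)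
    [Fintype N] [Fintype Q]
    (hnorm : classInner (fun n : N => ρ.character n) (fun n : N => ρ.character n) =
      classInner (fun q : Q => ρ.character q) (fun q : Q => ρ.character q))
    (f : Module.End ℂ V) (hf : ∀ n ∈ N, f * ρ n = ρ n * f) : ∀ q ∈ Q, f * ρ q = ρ q * f := by
  let ρN : Representation ℂ N V := ρ.comp N.subtype
  let ρQ : Representation ℂ Q V := ρ.comp Q.subtype
  have h1 : classInner ρN.character ρN.character =
      (Module.finrank ℂ (Representation.IntertwiningMap ρN ρN) : ℂ) := classInner_character ρN ρN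
  have h2 : classInner ρQ.character ρQ.character =
      (Module.finrank ℂ (Representation.IntertwiningMap ρQ ρQ) : ℂ) := classInner_character ρQ ρQ
  have h3 : classInner ρN.character ρN.character = classInner ρQ.character ρQ.character := hnorm
  have h4 : Module.finrank ℂ (Representation.IntertwiningMap ρN ρN) =
      Module.finrank ℂ (Representation.IntertwiningMap ρQ ρQ) := by
    rw [h1, h2] at h3
    exact_mod_cast h3
  let ιN : Representation.IntertwiningMap ρN ρN →ₗ[ℂ] (V →ₗ[ℂ] V) :=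
    { toFun := fun f => f.toLinearMap
      map_add' := fun _ _ => rfl
      map_smul' := fun _ _ => rfl }
  let ιQ : Representation.IntertwiningMap ρQ ρQ →ₗ[ℂ] (V →ₗ[ℂ] V) :=
    { toFun := fun f => f.toLinearMap
      map_add' := fun _ _ => rfl
      map_smul' := fun _ _ => rfl }
  have hιN : Function.Injective ιN := Representation.IntertwiningMap.toLinearMap_injective _ _
  have hιQ : Function.Injective ιQ := Representation.IntertwiningMap.toLinearMap_injective _ _
  have hle : LinearMap.range ιQ ≤ LinearMap.range ιN := by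
    rintro _ ⟨g, rfl⟩
    refine ⟨⟨g.toLinearMap, fun n => ?_⟩, rfl⟩
    exact g.isIntertwining' ⟨n, hNQ n.2⟩
  have heq : LinearMap.range ιQ = LinearMap.range ιN := by
    apply Submodule.eq_of_le_of_finrank_eq hle
    rw [LinearMap.finrank_range_of_inj hιQ, LinearMap.finrank_range_of_inj hιN, h4]
  have hfN : (f : V →ₗ[ℂ] V) ∈ LinearMap.range ιN := by
    refine ⟨⟨f, fun n => ?_⟩, rfl⟩
    exact hf n n.2
  rw [← heq] at hfN
  obtain ⟨g, hg⟩ := hfN
  intro q hq
  have h5 := g.isIntertwining' ⟨q, hq⟩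
  have hg' : g.toLinearMap = f := hg
  rw [hg'] at h5
  exact h5

/-- The central character vanishes modulo `p` off `Q`. -/
theorem memLocalIdeal_centralChar {G : Type u} [Group G] [Finite G] {p : ℕ} [Fact p.Prime]
    {M : Ideal AlgInt} (hM : IsPModular p M) (N Q : Subgroup G) [hN : N.Normal] [hQ : Q.Normal]
    [Fintype N] [Fintype Q] (hNQ : N ≤ Q) (hNp : ¬ p ∣ Nat.card N) (P : Subgroup G)
    (hP : IsPGroup p P) (hPQ : P ≤ Q) (hC : Subgroup.centralizer (P : Set G) ≤ Q)
    {χ : G → ℂ} (hχ : IsIrrCharacter G χ)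
    (hnorm : classInner (fun n : N => χ n) (fun n : N => χ n) =
      classInner (fun q : Q => χ q) (fun q : Q => χ q)) (g : G) (hg : g ∉ Q) :
    MemLocalIdeal M (centralChar χ g) := by
  classical
  have := Fintype.ofFinite G
  obtain ⟨d, ρ, hρ, rfl⟩ := hχ
  have hnt : Nontrivial (Fin d → ℂ) := by
    have h1 := ClassScalar.finrank_ne_zero ρ hρ
    exact Module.nontrivial_of_finrank_pos (R := ℂ) (Nat.pos_of_ne_zero h1)
  -- the averaged operators
  let φ : MonoidAlgebra ℤ G →ₐ[ℤ] Module.End ℂ (Fin d → ℂ) :=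
    MonoidAlgebra.lift ℤ (Module.End ℂ (Fin d → ℂ)) G ρ
  have hφ : ∀ x : G, φ (MonoidAlgebra.single x 1) = ρ x := by
    intro x
    simp [φ, MonoidAlgebra.lift_single]
  let t : G → MonoidAlgebra ℤ G := fun x => ∑ n : N, MonoidAlgebra.single ((n : G) * x * (n : G)⁻¹) 1
  have ht : ∀ x : G, φ (t x) = ∑ n : N, ρ n * ρ x * ρ (n : G)⁻¹ := by
    intro x
    show φ (∑ n : N, MonoidAlgebra.single ((n : G) * x * (n : G)⁻¹) 1) = _
    rw [map_sum]
    refine Finset.sum_congr rfl fun n _ => ?_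
    rw [hφ, map_mul, map_mul]
  have hcommN : ∀ x : G, ∀ m ∈ N, φ (t x) * ρ m = ρ m * φ (t x) := by
    intro x m hm
    rw [ht, Finset.sum_mul, Finset.mul_sum]
    refine Fintype.sum_equiv (Equiv.mulLeft (⟨m, hm⟩ : N)⁻¹) _ _ fun n => ?_
    simp only [Equiv.coe_mulLeft, Subgroup.coe_mul, Subgroup.coe_inv, mul_inv_rev, inv_inv]
    rw [← map_mul, ← map_mul, ← map_mul, ← map_mul, ← map_mul, ← map_mul]
    congr 1
    group
  have hcommQ : ∀ x : G, ∀ q ∈ Q, φ (t x) * ρ q = ρ q * φ (t x) := fun x =>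
    commute_of_norm_eq ρ N Q hNQ hnorm _ (hcommN x)
  have hinv : ∀ u ∈ P, ∀ x : G, φ (t (u * x * u⁻¹)) = φ (t x) := by
    intro u hu x
    have h1 : φ (t (u * x * u⁻¹)) = ρ u * φ (t x) * ρ u⁻¹ := by
      rw [ht, ht, Finset.mul_sum, Finset.sum_mul]
      let e : N ≃ N := (MulAut.conjNormal u⁻¹ : MulAut N).toEquiv
      refine Fintype.sum_equiv e _ _ fun n => ?_
      have he : ((e n : N) : G) = u⁻¹ * n * u := by
        show (((MulAut.conjNormal u⁻¹ : MulAut N) n : N) : G) = _
        rw [MulAut.conjNormal_apply, inv_inv]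
      rw [he, ← map_mul, ← map_mul, ← map_mul, ← map_mul, ← map_mul, ← map_mul]
      congr 1
      group
    rw [h1, ← hcommQ x u (hPQ hu), mul_assoc, ← map_mul, mul_inv_cancel, map_one, mul_one]
  -- the class of `g`
  let K : Finset G := Finset.univ.filter fun x => IsConj g x
  have hK : ∀ x, x ∈ K ↔ IsConj g x := fun x => by simp [K]
  have hKQ : ∀ x ∈ K, x ∉ Q := by
    intro x hx hxQ
    apply hg
    obtain ⟨c, hc⟩ := isConj_iff.1 ((hK x).1 hx)
    have h1 := hQ.conj_mem x hxQ c⁻¹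
    rw [← hc] at h1
    have h2 : c⁻¹ * (c * g * c⁻¹) * c⁻¹⁻¹ = g := by group
    rwa [h2] at h1
  let S := φ.range
  let F : G → S := fun x => ⟨φ (t x), ⟨t x, rfl⟩⟩
  obtain ⟨a, ha⟩ := OrbitSum.sum_eq_smul_of_disjoint_centralizer P hP K
    (fun u hu x hx => by
      rw [hK] at hx ⊢
      exact hx.trans (isConj_iff.2 ⟨u, rfl⟩))
    (fun x hx hxC => hKQ x hx (hC hxC)) F
    (fun u hu x hx => Subtype.ext (hinv u hu x))
  obtain ⟨y, hy⟩ := a.2
  -- the sum
  have hsumK : ∑ x ∈ K, ρ x = centralChar ρ.character g • (1 : Module.End ℂ (Fin d → ℂ)) := by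
    rw [← ClassScalar.sum_class_eq ρ hρ g, Finset.sum_filter]
    refine Finset.sum_congr rfl fun x _ => ?_
    split_ifs with h
    · rw [one_smul]
    · rw [zero_smul]
  have hsum : ∑ x ∈ K, φ (t x) =
      ((Nat.card N : ℂ) * centralChar ρ.character g) • (1 : Module.End ℂ (Fin d → ℂ)) := by
    have h1 : ∀ x ∈ K, φ (t x) = ∑ n : N, ρ n * ρ x * ρ (n : G)⁻¹ := fun x _ => ht x
    rw [Finset.sum_congr rfl h1, Finset.sum_comm]
    have h2 : ∀ n : N, ∑ x ∈ K, ρ n * ρ x * ρ (n : G)⁻¹ =
        centralChar ρ.character g • (1 : Module.End ℂ (Fin d → ℂ)) := by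
      intro n
      rw [← Finset.sum_mul, ← Finset.mul_sum, hsumK]
      rw [mul_smul_comm, smul_mul_assoc, mul_one, ← map_mul, mul_inv_cancel, map_one]
    rw [Finset.sum_congr rfl fun n _ => h2 n, Finset.sum_const, Finset.card_univ,
      ← Nat.card_eq_fintype_card, ← Nat.cast_smul_eq_nsmul ℂ, smul_smul]
  have hsum' : ∑ x ∈ K, φ (t x) = (p : ℂ) • φ y := by
    have h1 := congrArg (Subtype.val) ha
    rw [AddSubmonoidClass.coe_finsetSum] at h1
    have h2 : ∑ x ∈ K, ((F x : S) : Module.End ℂ (Fin d → ℂ)) = ((p • a : S) : Module.End ℂ (Fin d → ℂ)) :=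
      h1
    have h3 : ((p • a : S) : Module.End ℂ (Fin d → ℂ)) = (p : ℂ) • φ y := by
      have h4 : ((p • a : S) : Module.End ℂ (Fin d → ℂ)) = p • (a : Module.End ℂ (Fin d → ℂ)) := rfl
      rw [h4, ← hy, Nat.cast_smul_eq_nsmul ℂ]
      rfl
    rw [← h3, ← h2]
  have hp0 : (p : ℂ) ≠ 0 := by exact_mod_cast (Fact.out : p.Prime).ne_zero
  have hyc : φ y = (((Nat.card N : ℂ) * centralChar ρ.character g) / p) •
      (1 : Module.End ℂ (Fin d → ℂ)) := by
    have h1 : (p : ℂ) • φ y =
        ((Nat.card N : ℂ) * centralChar ρ.character g) • (1 : Module.End ℂ (Fin d → ℂ)) := by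
      rw [← hsum', hsum]
    have h2 := congrArg (fun z => (p : ℂ)⁻¹ • z) h1
    simp only [smul_smul] at h2
    rw [inv_mul_cancel₀ hp0, one_smul] at h2
    rw [h2]
    congr 1
    ring
  have hint := ClassScalar.isIntegral_of_lift_eq ρ y _ hyc
  -- conclusion
  have hcN : (Nat.card N : ℂ) ≠ 0 := by exact_mod_cast Nat.card_pos.ne'
  have h1 : centralChar ρ.character g =
      (Nat.card N : ℂ)⁻¹ * (p * (((Nat.card N : ℂ) * centralChar ρ.character g) / p)) := by
    field_simp
  rw [h1]
  refine LocalRing.memLocalIdeal_mul_left hM ?_ (LocalRing.memLocalIdeal_mul_right hM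
    (LocalRing.memLocalIdeal_prime hM) (LocalRing.memLocalRing_of_isIntegral hM hint))
  refine LocalRing.memLocalRing_inv (LocalRing.memLocalRing_natCast hM _) ?_
  rw [LocalRing.memLocalIdeal_natCast_iff hM]
  exact hNp

end Cfsg.Agent.H604.OverExt
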