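import Mathlib
import Cfsg.Agent.H604.Acd
import Cfsg.Agent.ClassicalGeometry.SplitTorus

/-!
# The Borel subgroup of `PSL₂(q)`, `q > 9` odd, has average degree greater than two
-/

set_option autoImplicit false
open Cfsg

namespace Cfsg.Agent.H604.AcdBorel

open Cfsg.Agent.H604.Acd Cfsg.Agent.ClassicalGeometry.SplitTorus
open Subgroup Matrix

variable {F : Type*} [Field F]

theorem sq_eq_one_iff_of_ne_or {x : F} (h : x ^ 2 = 1) : x = 1 ∨ x = -1 :=
  by
  rcases mul_eq_zero.1 (show (x - 1) * (x + 1) = 0 by linear_combination h) with h | h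
  · left; linear_combination h
  · right; linear_combination h

/-- Upper triangular matrices. -/
def borel (F : Type*) [Field F] : Subgroup (SpecialLinearGroup (Fin 2) F) where
  carrier := {A | A 1 0 = 0}
  one_mem' := by simp
  mul_mem' := by
    intro A B hA hB
    have hA' : A 1 0 = 0 := hA
    have hB' : B 1 0 = 0 := hB
    show (A * B) 1 0 = 0
    rw [mul10, hA', hB']
    ring
  inv_mem' := by
    intro A hA
    have hA' : A 1 0 = 0 := hA
    show (A⁻¹) 1 0 = 0
    rw [inv10, hA', neg_zero]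

theorem mem_borel {A : SpecialLinearGroup (Fin 2) F} : A ∈ borel F ↔ A 1 0 = 0 := Iff.rfl

theorem det_one {A : SpecialLinearGroup (Fin 2) F} (hA : A ∈ borel F) : A 0 0 * A 1 1 = 1 := by
  have h := det_eq A
  rwa [mem_borel.1 hA, mul_zero, sub_zero] at h

/-- The upper left entry. -/
noncomputable def dgh (F : Type*) [Field F] : borel F →* Fˣ where
  toFun A := ⟨A.1 0 0, A.1 1 1, det_one A.2, by rw [mul_comm]; exact det_one A.2⟩
  map_one' := Units.ext (by simp)
  map_mul' A B := Units.ext (by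
    show (A.1 * B.1) 0 0 = A.1 0 0 * B.1 0 0
    rw [mul00, mem_borel.1 B.2]
    ring)

theorem dgh_apply (A : borel F) : (dgh F A : F) = A.1 0 0 := rfl

theorem dgh_surjective : Function.Surjective (dgh F) := by
  intro u
  exact ⟨⟨dg u, mem_borel.2 rfl⟩, Units.ext rfl⟩

theorem ext_borel {A B : borel F} (h1 : A.1 0 0 = B.1 0 0) (h2 : A.1 0 1 = B.1 0 1) : A = B := by
  apply Subtype.ext
  have hA := det_one A.2
  have hB := det_one B.2
  have h3 : A.1 1 1 = B.1 1 1 := by
    rw [h1] at hA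
    exact mul_left_cancel₀ (left_ne_zero_of_mul_eq_one hB) (hA.trans hB.symm)
  exact ext2 h1 h2 ((mem_borel.1 A.2).trans (mem_borel.1 B.2).symm) h3

theorem mem_ker_dgh {A : borel F} : A ∈ (dgh F).ker ↔ A.1 0 0 = 1 := by
  rw [MonoidHom.mem_ker, Units.ext_iff]; rfl

theorem card_ker : Nat.card (dgh F).ker = Nat.card F := by
  refine (Nat.card_congr (Equiv.ofBijective (fun a : F =>
    (⟨⟨up a, mem_borel.2 rfl⟩, mem_ker_dgh.2 rfl⟩ : (dgh F).ker)) ⟨?_, ?_⟩)).symm
  · intro a b hab
    have := congrArg (fun x : (dgh F).ker => x.1.1 0 1) hab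
    exact this
  · intro A
    refine ⟨A.1.1 0 1, ?_⟩
    apply Subtype.ext
    refine ext_borel ?_ rfl
    exact (mem_ker_dgh.1 A.2).symm

theorem mul_01 (A B : borel F) : (A * B).1 0 1 = A.1 0 0 * B.1 0 1 + A.1 0 1 * B.1 1 1 :=
  mul01 A.1 B.1

theorem eleven {A : borel F} (h : A ∈ (dgh F).ker) : A.1 1 1 = 1 := by
  have h1 := det_one A.2
  rwa [mem_ker_dgh.1 h, one_mul] at h1

theorem ker_comm : ∀ A ∈ (dgh F).ker, ∀ B ∈ (dgh F).ker, A * B = B * A := by
  intro A hA B hB
  refine ext_borel ?_ ?_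
  · rw [mem_ker_dgh.1 (mul_mem hA hB), mem_ker_dgh.1 (mul_mem hB hA)]
  · rw [mul_01, mul_01, mem_ker_dgh.1 hA, mem_ker_dgh.1 hB, eleven hA, eleven hB]
    ring

/-- Elements commuting with a nontrivial element of the kernel. -/
theorem sq_eq_one {A B : borel F} (hA : A ∈ (dgh F).ker) (h1 : A ≠ 1) (h : B * A = A * B) :
    dgh F B ^ 2 = 1 := by
  have h2 : (B * A).1 0 1 = (A * B).1 0 1 := by rw [h]
  rw [mul_01, mul_01, mem_ker_dgh.1 hA, eleven hA] at h2
  have h3 : A.1 0 1 ≠ 0 := by
    intro h0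
    apply h1
    refine ext_borel ?_ ?_
    · rw [mem_ker_dgh.1 hA]; rfl
    · rw [h0]; rfl
  have h4 : B.1 0 0 = B.1 1 1 := by
    apply mul_right_cancel₀ h3
    linear_combination h2
  rw [Units.ext_iff]
  have h5 := det_one B.2
  rw [← h4] at h5
  show (B.1 0 0) ^ 2 = 1
  rw [sq, h5]

/-- The projection to `PSL₂`. -/
def pr (F : Type*) [Field F] : borel F →* ProjectiveSpecialLinearGroup (Fin 2) F :=
  (QuotientGroup.mk' (center (SpecialLinearGroup (Fin 2) F))).comp (borel F).subtype

theorem mem_ker_pr {A : borel F} : A ∈ (pr F).ker ↔ A.1 ∈ center (SpecialLinearGroup (Fin 2) F) := by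
  rw [MonoidHom.mem_ker]
  exact QuotientGroup.eq_one_iff (N := center (SpecialLinearGroup (Fin 2) F)) A.1

theorem mem_center_iff' {A : SpecialLinearGroup (Fin 2) F} :
    A ∈ center (SpecialLinearGroup (Fin 2) F) ↔
      A 0 1 = 0 ∧ A 1 0 = 0 ∧ A 0 0 = A 1 1 := by
  rw [Matrix.SpecialLinearGroup.mem_center_iff]
  constructor
  · rintro ⟨r, -, hr⟩
    have h : ∀ i j, A i j = (Matrix.scalar (Fin 2) r) i j := fun i j => by rw [hr]
    refine ⟨?_, ?_, ?_⟩
    · rw [h]; simp
    · rw [h]; simp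
    · rw [h, h]; simp
  · rintro ⟨h1, h2, h3⟩
    refine ⟨A 0 0, ?_, ?_⟩
    · have := det_one (mem_borel.2 h2)
      rw [Fintype.card_fin, sq]
      rwa [← h3] at this
    · ext i j
      fin_cases i <;> fin_cases j
      · simp
      · simpa using h1.symm
      · simpa using h2.symm
      · simpa using h3

theorem ker_sup : (dgh F).ker ⊔ (pr F).ker = ((powMonoidHom 2).comp (dgh F)).ker := by
  apply le_antisymm
  · refine sup_le ?_ ?_
    · intro A hA
      rw [MonoidHom.mem_ker, MonoidHom.comp_apply, MonoidHom.mem_ker.1 hA, map_one]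
    · intro A hA
      have h := mem_center_iff'.1 (mem_ker_pr.1 hA)
      have h5 := det_one A.2
      rw [← h.2.2] at h5
      rw [MonoidHom.mem_ker, MonoidHom.comp_apply, Units.ext_iff]
      show (dgh F A : F) ^ 2 = 1
      rw [dgh_apply, sq, h5]
  · intro A hA
    rw [MonoidHom.mem_ker, MonoidHom.comp_apply, Units.ext_iff] at hA
    have h1 : (A.1 0 0) ^ 2 = 1 := hA
    rcases sq_eq_one_iff_of_ne_or h1 with h | h
    · exact mem_sup_left (mem_ker_dgh.2 h)
    · -- `A = (-1) * (-A)`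
      have hm : (-1 : SpecialLinearGroup (Fin 2) F) ∈ borel F := by
        rw [mem_borel, SpecialLinearGroup.coe_neg]; simp
      have hz : (⟨-1, hm⟩ : borel F) ∈ (pr F).ker := by
        rw [mem_ker_pr, mem_center_iff']
        refine ⟨?_, ?_, ?_⟩ <;> simp
      have hA' : (⟨-1, hm⟩ : borel F) * A ∈ (dgh F).ker := by
        rw [mem_ker_dgh]
        show ((-1 : SpecialLinearGroup (Fin 2) F) * A.1) 0 0 = 1
        rw [mul00, mem_borel.1 A.2, h]
        simp
      have h5 : A = (⟨-1, hm⟩ : borel F)⁻¹ * ((⟨-1, hm⟩ : borel F) * A) := by group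
      rw [h5]
      exact mul_mem (mem_sup_right (inv_mem hz)) (mem_sup_left hA')

/-- The squares. -/
theorem card_range [Finite F] (h2 : (2 : F) ≠ 0) :
    2 * Nat.card ((powMonoidHom 2).comp (dgh F)).range = Nat.card F - 1 := by
  have h1 : ((powMonoidHom 2).comp (dgh F)).range = (powMonoidHom 2 : Fˣ →* Fˣ).range := by
    rw [MonoidHom.range_comp, MonoidHom.range_eq_top.2 dgh_surjective, MonoidHom.range_eq_map]
  have h3 := Subgroup.card_mul_index (powMonoidHom 2 : Fˣ →* Fˣ).ker
  rw [index_ker, Nat.card_units] at h3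
  have h4 : Nat.card (powMonoidHom 2 : Fˣ →* Fˣ).ker = 2 := by
    rw [Nat.card_eq_two_iff]
    refine ⟨⟨1, one_mem _⟩, ⟨-1, by rw [MonoidHom.mem_ker]; simp⟩, ?_, ?_⟩
    · intro h
      have h5 : (1 : Fˣ) = -1 := congrArg Subtype.val h
      have h6 : (1 : F) = -1 := by simpa using congrArg Units.val h5
      apply h2
      linear_combination h6
    · rw [Set.eq_univ_iff_forall]
      rintro ⟨u, hu⟩
      have h5 : u ^ 2 = 1 := hu
      have h6 : (u : F) ^ 2 = 1 := by
        have := congrArg Units.val h5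
        simpa using this
      rcases sq_eq_one_iff_of_ne_or h6 with h | h
      · left
        exact Subtype.ext (Units.ext (by simpa using h))
      · right
        exact Subtype.ext (Units.ext (by simpa using h))
  rw [h4] at h3
  rw [h1, h3]

/-- The structure of the Borel subgroup. -/
theorem borel_struct [Finite F] (h2 : (2 : F) ≠ 0) :
    ∃ R : Subgroup (ProjectiveSpecialLinearGroup (Fin 2) F), R ≠ ⊤ ∧ ∃ U : Subgroup R, U.Normal ∧
      (∀ a ∈ U, ∀ b ∈ U, a * b = b * a) ∧ (∀ u ∈ U, u ≠ 1 → ∀ g : R, g * u = u * g → g ∈ U) ∧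
      commutator R ≤ U ∧ 2 * U.index = Nat.card F - 1 ∧ Nat.card U = Nat.card F := by
  classical
  refine ⟨(pr F).range, ?_, ?_⟩
  · intro htop
    obtain ⟨A, hA⟩ := (MonoidHom.range_eq_top.1 htop)
      (QuotientGroup.mk' (center (SpecialLinearGroup (Fin 2) F)) (wl F))
    have h3 : (wl F)⁻¹ * A.1 ∈ center (SpecialLinearGroup (Fin 2) F) :=
      QuotientGroup.eq.1 hA.symm
    have h4 := (mem_center_iff'.1 h3).2.2
    have h5 := (mem_center_iff'.1 h3).1
    rw [mul00, mul11, inv00, inv01, inv10, inv11, mem_borel.1 A.2] at h4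
    rw [mul01, inv00, inv01] at h5
    have h6 : A.1 1 1 = 0 := by
      simpa [wl] using h5
    have h7 := det_one A.2
    rw [h6, mul_zero] at h7
    exact one_ne_zero h7.symm
  · set π := (pr F).rangeRestrict with hπ
    have hπs : Function.Surjective π := (pr F).rangeRestrict_surjective
    have hπk : π.ker = (pr F).ker := (pr F).ker_rangeRestrict
    set U := (dgh F).ker.map π with hU
    have hUn : U.Normal := Normal.map inferInstance π hπs
    have hinj : ∀ A ∈ (dgh F).ker, A ∈ (pr F).ker → A = 1 := by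
      intro A hA hA'
      refine ext_borel ?_ ?_
      · rw [mem_ker_dgh.1 hA]; rfl
      · rw [(mem_center_iff'.1 (mem_ker_pr.1 hA')).1]; rfl
    have hUc : Nat.card U = Nat.card F := by
      rw [← card_ker (F := F)]
      refine (Nat.card_congr (Equiv.ofBijective (fun A : (dgh F).ker =>
        (⟨π A.1, mem_map_of_mem π A.2⟩ : U)) ⟨?_, ?_⟩)).symm
      · intro A B hAB
        have h3 : π A.1 = π B.1 := congrArg Subtype.val hAB
        have h4 : A.1⁻¹ * B.1 ∈ π.ker := by
          rw [MonoidHom.mem_ker, map_mul, map_inv, h3, inv_mul_cancel]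
        rw [hπk] at h4
        have h5 := hinj _ (mul_mem (inv_mem A.2) B.2) h4
        exact Subtype.ext (inv_mul_eq_one.1 h5)
      · rintro ⟨_, A, hA, rfl⟩
        exact ⟨⟨A, hA⟩, rfl⟩
    have hUi : 2 * U.index = Nat.card F - 1 := by
      rw [hU, Subgroup.index_map, hπk, ker_sup, index_ker, MonoidHom.range_eq_top.2 hπs,
        index_top, mul_one, card_range h2]
    have hUcomm : ∀ a ∈ U, ∀ b ∈ U, a * b = b * a := by
      rintro _ ⟨A, hA, rfl⟩ _ ⟨B, hB, rfl⟩
      rw [← map_mul, ker_comm A hA B hB, map_mul]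
    have hC : ∀ u ∈ U, u ≠ 1 → ∀ g : (pr F).range, g * u = u * g → g ∈ U := by
      rintro _ ⟨A, hA, rfl⟩ hA1 g hg
      obtain ⟨B, rfl⟩ := hπs g
      have hne : A ≠ 1 := by rintro rfl; exact hA1 (map_one π)
      have hA0 : dgh F A = 1 := hA
      have h3 : B * A * B⁻¹ * A⁻¹ ∈ (dgh F).ker := by
        rw [MonoidHom.mem_ker]
        rw [map_mul, map_mul, map_inv, map_inv, hA0]
        simp [hA0]
      have h4 : B * A * B⁻¹ * A⁻¹ ∈ (pr F).ker := by
        rw [← hπk, MonoidHom.mem_ker, map_mul, map_mul, map_mul, map_inv, map_inv, hg]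
        simp
      have h5 := hinj _ h3 h4
      have h6 : B * A = A * B := by
        have : B * A * B⁻¹ * A⁻¹ * (A * B) = B * A := by group
        rw [← this, h5, one_mul]
      have h7 := sq_eq_one hA hne h6
      have h8 : B ∈ ((powMonoidHom 2).comp (dgh F)).ker := h7
      rw [← ker_sup] at h8
      have h9 : π B ∈ ((dgh F).ker ⊔ (pr F).ker).map π := mem_map_of_mem π h8
      rw [Subgroup.map_sup, ← hπk, (map_eq_bot_iff π.ker).2 le_rfl, sup_bot_eq] at h9
      exact h9
    have hcomm : commutator (pr F).range ≤ U := by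
      rw [_root_.commutator_def, commutator_le]
      intro a _ b _
      obtain ⟨A, rfl⟩ := hπs a
      obtain ⟨B, rfl⟩ := hπs b
      rw [← map_commutatorElement]
      refine mem_map_of_mem π ?_
      rw [MonoidHom.mem_ker, map_commutatorElement, commutatorElement_def]
      rw [mul_comm (dgh F A) (dgh F B)]
      simp
    exact ⟨U, hUn, hUcomm, hC, hcomm, hUi, hUc⟩

/-- The average degree of the Borel subgroup. -/
theorem exists_borel [Finite F] (h2 : (2 : F) ≠ 0) (h9 : 9 < Nat.card F) :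
    ∃ R : Subgroup (ProjectiveSpecialLinearGroup (Fin 2) F), R ≠ ⊤ ∧ 0 < dd R := by
  obtain ⟨R, hR, U, hUn, hUcomm, hC, hcomm, hUi, hUc⟩ := borel_struct h2
  refine ⟨R, hR, ?_⟩
  obtain ⟨e, he⟩ : ∃ e, U.index = e := ⟨_, rfl⟩
  have h1 : Nat.card U = 2 * e + 1 := by omega
  have h := frobenius U hUcomm hC hcomm he (by omega) h1
  rw [h]
  push_cast
  omega

/-- `PSL₂(7)` contains a Frobenius group of order `21`. -/
theorem exists_twentyone :
    ∃ R : Subgroup (ProjectiveSpecialLinearGroup (Fin 2) (ZMod 7)), R ≠ ⊤ ∧ Nat.card R = 21 ∧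
      Nat.card (commutator R) = 7 := by
  have hfact : Fact (Nat.Prime 7) := ⟨by norm_num⟩
  have h20 : (2 : ZMod 7) ≠ 0 := by
    intro h
    have h1 : ((2 : ℕ) : ZMod 7) = 0 := by exact_mod_cast h
    rw [ZMod.natCast_eq_zero_iff] at h1
    omega
  obtain ⟨R, hR, U, hUn, hUcomm, hC, hcomm, hUi, hUc⟩ := borel_struct h20
  rw [Nat.card_zmod] at hUi hUc
  have hi : U.index = 3 := by omega
  refine ⟨R, hR, by rw [← card_mul_index U, hUc, hi], ?_⟩
  have hfin : Finite R := by
    apply Nat.finite_of_card_ne_zero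
    rw [← card_mul_index U, hUc, hi]
    norm_num
  have h1 : Nat.card (commutator R) ∣ 7 := (card_dvd_of_le hcomm).trans (dvd_of_eq hUc)
  rcases (Nat.dvd_prime (by norm_num)).1 h1 with h | h
  · exfalso
    have h2 : commutator R = ⊥ := card_eq_one.1 h
    have h3 : ∀ x y : R, x * y = y * x := by
      intro x y
      have h4 : x * y * x⁻¹ * y⁻¹ ∈ commutator R := commutator_mem_commutator (mem_top x) (mem_top y)
      rw [h2, mem_bot] at h4
      have : x * y = (x * y * x⁻¹ * y⁻¹) * (y * x) := by group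
      rw [this, h4, one_mul]
    have hnt : Nontrivial U := Finite.one_lt_card_iff_nontrivial.1 (by omega)
    obtain ⟨⟨u, hu⟩, hu1⟩ := exists_ne (1 : U)
    have h5 : U = ⊤ := by
      rw [eq_top_iff]
      intro g _
      exact hC u hu (fun h6 => hu1 (Subtype.ext h6)) g (h3 g u)
    rw [h5, index_top] at hi
    omega
  · exact h

end Cfsg.Agent.H604.AcdBorel
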