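import Mathlib
import Cfsg.Agent.H604.AcdTools
import Cfsg.Agent.S0803

/-!
# Double covers of `S₄`
-/

set_option autoImplicit false
open Cfsg

namespace Cfsg.Agent.H604.AcdCentral

open Cfsg.Agent.H604.Acd Cfsg.Agent.H604.AcdTools Cfsg.Agent.Characters.Core
open Subgroup

universe u v

/-- A central involution of a perfect group lies in the derived group of every subgroup of odd
index containing it. -/
theorem mem_commutator {G : Type u} [Group G] [Finite G] (hG : commutator G = ⊤) (H : Subgroup G)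
    (hodd : Odd H.index) {z : G} (hz : z ∈ center G) (hz2 : z ^ 2 = 1) (hzH : z ∈ H) :
    (⟨z, hzH⟩ : H) ∈ commutator H := by
  have hfi : H.FiniteIndex := inferInstance
  have key : ∀ (k : ℕ) (g₀ : G), g₀⁻¹ * z ^ k * g₀ ∈ H → g₀⁻¹ * z ^ k * g₀ = z ^ k := by
    intro k g₀ _
    have h1 := mem_center_iff.1 (pow_mem hz k) g₀
    rw [mul_assoc, ← h1, inv_mul_cancel_left]
  have h1 := MonoidHom.transfer_eq_pow (ϕ := (Abelianization.of : H →* Abelianization H)) z key
  have h2 : MonoidHom.transfer (Abelianization.of : H →* Abelianization H) z = 1 := by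
    have h3 := Abelianization.commutator_subset_ker
      (MonoidHom.transfer (Abelianization.of : H →* Abelianization H))
    rw [hG] at h3
    exact MonoidHom.mem_ker.1 (h3 (mem_top z))
  rw [h2] at h1
  have h3 : (⟨z ^ H.index, MonoidHom.transfer_eq_pow_aux z key⟩ : H) = ⟨z, hzH⟩ := by
    apply Subtype.ext
    show z ^ H.index = z
    obtain ⟨k, hk⟩ := hodd
    rw [hk, pow_succ, pow_mul, hz2, one_pow, one_mul]
  rw [h3] at h1
  exact (QuotientGroup.eq_one_iff _).1 h1.symm

/-- A group of order `24` with two linear characters has at most five classes. -/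
theorem card_irr_le_five {Q : Type u} [Group Q] [Finite Q] [Fintype (IrrCharacter Q)]
    (h24 : Nat.card Q = 24) (hQ : (commutator Q).index = 2) :
    Fintype.card (IrrCharacter Q) ≤ 5 := by
  classical
  have hsq := sum_sq (G := Q)
  rw [← Finset.sum_filter_add_sum_filter_not Finset.univ
      (fun χ : IrrCharacter Q => charDegree (χ : Q → ℂ) = 1)] at hsq
  rw [Finset.sum_congr rfl (g := fun _ => 1) (fun χ hχ => by
        rw [(Finset.mem_filter.1 hχ).2]; rfl), Finset.sum_const, card_linear, hQ, h24,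
        smul_eq_mul, mul_one] at hsq
  have hcard : Fintype.card (IrrCharacter Q) = 2 +
      (Finset.univ.filter fun χ : IrrCharacter Q => ¬ charDegree (χ : Q → ℂ) = 1).card := by
    rw [← hQ, ← card_linear, ← Finset.card_univ]
    exact (Finset.card_filter_add_card_filter_not _).symm
  set B := Finset.univ.filter (fun χ : IrrCharacter Q => ¬ charDegree (χ : Q → ℂ) = 1) with hB
  have h2 : ∀ χ ∈ B, 2 ≤ charDegree (χ : Q → ℂ) := fun χ hχ => by
    have e1 := (Finset.mem_filter.1 hχ).2
    have e2 := deg_pos χ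
    omega
  have h22 : ∑ χ ∈ B, charDegree (χ : Q → ℂ) ^ 2 = 22 := by omega
  -- parity
  have h3 : ∑ χ ∈ B, (charDegree (χ : Q → ℂ) % 2) ≡ 22 [MOD 4] := by
    rw [← h22]
    refine Nat.ModEq.sum fun χ _ => ?_
    obtain ⟨c, hc⟩ | ⟨c, hc⟩ := Nat.even_or_odd (charDegree (χ : Q → ℂ))
    · have e1 : charDegree (χ : Q → ℂ) % 2 = 0 := by omega
      rw [e1, hc]
      exact (Nat.modEq_zero_iff_dvd.2 ⟨c ^ 2, by ring⟩).symm
    · have e1 : charDegree (χ : Q → ℂ) % 2 = 1 := by omega
      rw [e1, hc]
      have e2 : (2 * c + 1) ^ 2 = 1 + 4 * (c ^ 2 + c) := by ring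
      rw [e2]
      exact (Nat.modEq_iff_dvd' (by omega)).2 ⟨c ^ 2 + c, by omega⟩
  have h4 : 4 * B.card + 5 * ∑ χ ∈ B, (charDegree (χ : Q → ℂ) % 2) ≤ 22 := by
    rw [← h22, Finset.mul_sum, mul_comm, ← smul_eq_mul, ← Finset.sum_const,
      ← Finset.sum_add_distrib]
    refine Finset.sum_le_sum fun χ hχ => ?_
    have e1 := h2 χ hχ
    rcases Nat.mod_two_eq_zero_or_one (charDegree (χ : Q → ℂ)) with e | e
    · rw [e]; nlinarith
    · rw [e]
      have : 3 ≤ charDegree (χ : Q → ℂ) := by omega
      nlinarith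
  unfold Nat.ModEq at h3
  omega

/-- Classes of a double cover. -/
theorem card_conj_le {H : Type u} {Q : Type v} [Group H] [Finite H] [Group Q] (g : H →* Q)
    (hg : Function.Surjective g) (hk : Nat.card g.ker = 2) :
    Nat.card (ConjClasses H) ≤ 2 * Nat.card (ConjClasses Q) := by
  classical
  have : Finite Q := Finite.of_surjective g hg
  obtain ⟨z, hz1, hz⟩ : ∃ z : H, z ∈ g.ker ∧ ∀ x ∈ g.ker, x = 1 ∨ x = z := by
    obtain ⟨a, b, hab, huniv⟩ := Nat.card_eq_two_iff.1 hk
    have h1 : (1 : g.ker) = a ∨ (1 : g.ker) = b := by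
      have : (1 : g.ker) ∈ ({a, b} : Set g.ker) := by rw [huniv]; trivial
      simpa using this
    rcases h1 with h1 | h1
    · refine ⟨b, b.2, fun x hx => ?_⟩
      have : (⟨x, hx⟩ : g.ker) ∈ ({a, b} : Set g.ker) := by rw [huniv]; trivial
      rcases this with h | h
      · left; rw [← h1] at h; exact congrArg Subtype.val h
      · right; exact congrArg Subtype.val h
    · refine ⟨a, a.2, fun x hx => ?_⟩
      have : (⟨x, hx⟩ : g.ker) ∈ ({a, b} : Set g.ker) := by rw [huniv]; trivial
      rcases this with h | h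
      · right; exact congrArg Subtype.val h
      · left
        have h' : (⟨x, hx⟩ : g.ker) = b := h
        rw [← h1] at h'
        exact congrArg Subtype.val h'
  let rep : ConjClasses Q → H := fun c => (hg (Quotient.out c)).choose
  have hrep : ∀ c, g (rep c) = Quotient.out c := fun c => (hg (Quotient.out c)).choose_spec
  let φ : ConjClasses Q × Bool → ConjClasses H := fun p =>
    if p.2 then ConjClasses.mk (z * rep p.1) else ConjClasses.mk (rep p.1)
  have hφ : Function.Surjective φ := by
    intro C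
    obtain ⟨x, rfl⟩ := ConjClasses.mk_surjective C
    set c := ConjClasses.mk (g x) with hc
    have h1 : IsConj (g x) (g (rep c)) := by
      rw [hrep, ← ConjClasses.mk_eq_mk_iff_isConj, ← hc]
      exact (Quotient.out_eq c).symm
    obtain ⟨y, hy⟩ := isConj_iff.1 h1
    obtain ⟨h, rfl⟩ := hg y
    have h2 : h * x * h⁻¹ * (rep c)⁻¹ ∈ g.ker := by
      rw [MonoidHom.mem_ker, map_mul, map_mul, map_mul, map_inv, map_inv, hy, mul_inv_cancel]
    rcases hz _ h2 with h3 | h3
    · refine ⟨(c, false), ?_⟩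
      show ConjClasses.mk (rep c) = ConjClasses.mk x
      rw [ConjClasses.mk_eq_mk_iff_isConj]
      exact (isConj_iff.2 ⟨h, mul_inv_eq_one.1 h3⟩).symm
    · refine ⟨(c, true), ?_⟩
      show ConjClasses.mk (z * rep c) = ConjClasses.mk x
      rw [ConjClasses.mk_eq_mk_iff_isConj]
      exact (isConj_iff.2 ⟨h, mul_inv_eq_iff_eq_mul.1 h3⟩).symm
  have h1 := Nat.card_le_card_of_surjective φ hφ
  rw [Nat.card_prod, Nat.card_eq_fintype_card (α := Bool), Fintype.card_bool] at h1
  omega

/-- A double cover of a group of order `24` with two linear characters. -/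
theorem pos_of_double {H : Type u} {Q : Type v} [Group H] [Finite H] [Group Q] (g : H →* Q)
    (hg : Function.Surjective g) (hk : Nat.card g.ker = 2) (hk' : g.ker ≤ commutator H)
    (h24 : Nat.card Q = 24) (hQ : (commutator Q).index = 2) : 0 < dd H := by
  classical
  have hQfin : Finite Q := Finite.of_surjective g hg
  have hfin : Finite (IrrCharacter H) := finite_irr
  have := Fintype.ofFinite (IrrCharacter H)
  have hfin' : Finite (IrrCharacter Q) := finite_irr
  have := Fintype.ofFinite (IrrCharacter Q)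
  have hidx : (commutator H).index = 2 := by
    have h1 : (commutator H).map g = commutator Q := by
      rw [_root_.commutator_def, map_commutator, ← MonoidHom.range_eq_map,
        MonoidHom.range_eq_top.2 hg, _root_.commutator_def]
    have h2 := Subgroup.index_map (commutator H) g
    rw [h1, hQ, sup_eq_left.2 hk', MonoidHom.range_eq_top.2 hg, index_top, mul_one] at h2
    exact h2.symm
  have h48 : Nat.card H = 48 := by
    have h1 := card_mul_index g.ker
    rw [index_ker, MonoidHom.range_eq_top.2 hg, Subgroup.card_top, h24, hk] at h1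
    exact h1.symm
  have hk10 : Fintype.card (IrrCharacter H) ≤ 10 := by
    have h1 := card_conj_le g hg hk
    rw [← card_irr, ← card_irr, Nat.card_eq_fintype_card, Nat.card_eq_fintype_card] at h1
    have h2 := card_irr_le_five h24 hQ
    omega
  by_contra hcon
  push Not at hcon
  have hsq := sum_sq (G := H)
  have h1 := hcon
  rw [dd_eq, ← Finset.sum_filter_add_sum_filter_not Finset.univ
      (fun χ : IrrCharacter H => charDegree (χ : H → ℂ) = 1)] at h1
  rw [Finset.sum_congr rfl (g := fun _ => (-1 : ℤ)) (fun χ hχ => by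
        rw [(Finset.mem_filter.1 hχ).2]; rfl), Finset.sum_const, card_linear, hidx] at h1
  rw [← Finset.sum_filter_add_sum_filter_not Finset.univ
      (fun χ : IrrCharacter H => charDegree (χ : H → ℂ) = 1)] at hsq
  rw [Finset.sum_congr rfl (g := fun _ => 1) (fun χ hχ => by
        rw [(Finset.mem_filter.1 hχ).2]; rfl), Finset.sum_const, card_linear, hidx, h48,
        smul_eq_mul, mul_one] at hsq
  have hcard : Fintype.card (IrrCharacter H) = 2 +
      (Finset.univ.filter fun χ : IrrCharacter H => ¬ charDegree (χ : H → ℂ) = 1).card := by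
    rw [← hidx, ← card_linear, ← Finset.card_univ]
    exact (Finset.card_filter_add_card_filter_not _).symm
  set B := Finset.univ.filter (fun χ : IrrCharacter H => ¬ charDegree (χ : H → ℂ) = 1) with hB
  have h2 : ∀ χ ∈ B, 2 ≤ charDegree (χ : H → ℂ) := fun χ hχ => by
    have e1 := (Finset.mem_filter.1 hχ).2
    have e2 := deg_pos χ
    omega
  have h1' : ∑ χ ∈ B, ((charDegree (χ : H → ℂ) : ℤ) - 2) ≤ 2 := by
    simp only [smul_neg, nsmul_eq_mul, Nat.cast_ofNat, mul_one] at h1
    linarith
  have h4 : ∀ χ ∈ B, charDegree (χ : H → ℂ) ≤ 4 := fun χ hχ => by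
    have := Finset.single_le_sum (f := fun χ : IrrCharacter H =>
      ((charDegree (χ : H → ℂ) : ℤ) - 2)) (s := B) (fun ψ hψ => by
        have := h2 ψ hψ
        omega) hχ
    have e : (charDegree (χ : H → ℂ) : ℤ) - 2 ≤ 2 := this.trans h1'
    omega
  have h5 : ∑ χ ∈ B, ((charDegree (χ : H → ℂ) : ℤ) ^ 2) ≤
      4 * (B.card : ℤ) + 6 * ∑ χ ∈ B, ((charDegree (χ : H → ℂ) : ℤ) - 2) := by
    rw [Finset.mul_sum, mul_comm, ← nsmul_eq_mul, ← Finset.sum_const, ← Finset.sum_add_distrib]
    refine Finset.sum_le_sum fun χ hχ => ?_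
    have e1 := h2 χ hχ
    have e2 := h4 χ hχ
    obtain h | h | h : charDegree (χ : H → ℂ) = 2 ∨ charDegree (χ : H → ℂ) = 3 ∨
      charDegree (χ : H → ℂ) = 4 := by omega
    · rw [h]; norm_num
    · rw [h]; norm_num
    · rw [h]; norm_num
  have h6 : ∑ χ ∈ B, ((charDegree (χ : H → ℂ) : ℤ) ^ 2) = 46 := by
    have : ∑ χ ∈ B, (charDegree (χ : H → ℂ) ^ 2) = 46 := by omega
    exact_mod_cast this
  have h7 : B.card ≤ 8 := by omega
  have h8 : (B.card : ℤ) ≤ 8 := by exact_mod_cast h7
  linarith

/-! ### `S₄` -/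

/-- The derived group of the symmetric group. -/
theorem commutator_perm_four : commutator (Equiv.Perm (Fin 4)) = alternatingGroup (Fin 4) := by
  apply le_antisymm alternatingGroup.commutator_perm_le
  rw [← Equiv.Perm.closure_three_cycles_eq_alternating, closure_le]
  intro σ hσ
  have hσ' : σ.IsThreeCycle := hσ
  have h3 : σ ^ 3 = 1 := by rw [← hσ'.orderOf, pow_orderOf_eq_one]
  obtain ⟨τ, hτ⟩ := isConj_iff.1 (Equiv.Perm.isConj_iff_cycleType_eq.2
    (show σ⁻¹.cycleType = σ.cycleType from Equiv.Perm.cycleType_inv σ))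
  -- `σ τ σ⁻¹ τ⁻¹ = σ²`
  have h1 : σ * τ * σ⁻¹ * τ⁻¹ ∈ commutator (Equiv.Perm (Fin 4)) :=
    commutator_mem_commutator (mem_top _) (mem_top _)
  have h2 : σ * τ * σ⁻¹ * τ⁻¹ = σ ^ 2 := by
    calc σ * τ * σ⁻¹ * τ⁻¹ = σ * (τ * σ⁻¹ * τ⁻¹) := by group
      _ = σ ^ 2 := by rw [hτ, sq]
  rw [h2] at h1
  have h4 : σ = (σ ^ 2) ^ 2 := by
    have : (σ ^ 2) ^ 2 = σ ^ 3 * σ := by group
    rw [this, h3, one_mul]
  rw [SetLike.mem_coe, h4]
  exact pow_mem h1 2

theorem index_commutator_perm_four : (commutator (Equiv.Perm (Fin 4))).index = 2 := by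
  rw [commutator_perm_four]
  have : Nontrivial (Fin 4) := inferInstance
  exact alternatingGroup.index_eq_two

/-- `PSL₂(7)` contains `S₄`. -/
theorem exists_s4 : ∃ S : Subgroup (Matrix.ProjectiveSpecialLinearGroup (Fin 2) (ZMod 7)),
    Nonempty (S ≃* Equiv.Perm (Fin 4)) := by
  have : Fact (Nat.Prime 7) := ⟨by norm_num⟩
  exact (Cfsg.Agent.S0803.result (F := ZMod 7) (q := 7) (ZMod.card 7)).2 (by norm_num)

theorem index_commutator_congr {A B : Type*} [Group A] [Group B] (e : A ≃* B) :
    (commutator A).index = (commutator B).index := by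
  have h1 : (commutator A).map e.toMonoidHom = commutator B := by
    rw [_root_.commutator_def, map_commutator, ← MonoidHom.range_eq_map,
      MonoidHom.range_eq_top.2 e.surjective, _root_.commutator_def]
  rw [← h1, Subgroup.index_map, (MonoidHom.ker_eq_bot_iff e.toMonoidHom).2 e.injective, sup_bot_eq,
    MonoidHom.range_eq_top.2 e.surjective, index_top, mul_one]

end Cfsg.Agent.H604.AcdCentral
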