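import Mathlib
import Cfsg.Agent.H604.AcdCentral
import Cfsg.Agent.Lib.PSL2Mult
import Cfsg.Agent.OddCyclic.CoverTrans
import Cfsg.Agent.OddCyclic.T1Socle
import Cfsg.Agent.StdL2.Cover
import Cfsg.Agent.OddHalf.NI.SLClosed
import Cfsg.Agent.ClassicalGeometry.PSL2Basic
import Cfsg.Agent.LieClassical.FieldTransfer
import Cfsg.Agent.S0102

/-!
# The central case
-/

set_option autoImplicit false
open Cfsg

namespace Cfsg.Agent.H604.AcdCaseA

open Cfsg.Agent.H604.Acd Cfsg.Agent.H604.AcdTools Cfsg.Agent.H604.AcdCentral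
open Subgroup Matrix

universe u v

theorem card_psl7 : Nat.card (ProjectiveSpecialLinearGroup (Fin 2) (ZMod 7)) = 168 := by
  have : Fact (Nat.Prime 7) := ⟨by norm_num⟩
  have h := ClassicalGeometry.PSL2Basic.card_PSL2_odd (ZMod 7) (by rw [ZMod.card]; decide)
  rw [ZMod.card] at h
  omega

theorem card_sl5 : Nat.card (SpecialLinearGroup (Fin 2) (ZMod 5)) = 120 := by
  have : Fact (Nat.Prime 5) := ⟨by norm_num⟩
  have h := ClassicalGeometry.PSL2Basic.card_SL2 (ZMod 5)
  rw [ZMod.card] at h
  omega

variable {G : Type u} [Group G] [Finite G]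

/-- `PSL₂(7)`. -/
theorem psl7 (hyp : Hyp G) (hperf : commutator G = ⊤)
    (f : G →* ProjectiveSpecialLinearGroup (Fin 2) (ZMod 7)) (hf : Function.Surjective f)
    (hc : f.ker ≤ center G) (hp : (Nat.card f.ker).Prime) : False := by
  have : Fact (Nat.Prime 7) := ⟨by norm_num⟩
  rcases hp.eq_two_or_odd' with h2 | hodd
  · obtain ⟨S, ⟨e⟩⟩ := exists_s4
    have hS24 : Nat.card S = 24 := by
      rw [Nat.card_congr e.toEquiv, Nat.card_perm, Nat.card_fin]; rfl
    have hSi : S.index = 7 := by
      have h1 := card_mul_index S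
      rw [hS24, card_psl7] at h1
      omega
    set H := S.comap f with hH
    have hHi : H.index = 7 := by rw [hH, index_comap_of_surjective S hf, hSi]
    have hHt : H ≠ ⊤ := by
      intro h0
      rw [h0, index_top] at hHi
      omega
    have hkH : f.ker ≤ H := fun a ha => by
      rw [hH, mem_comap, MonoidHom.mem_ker.1 ha]; exact one_mem _
    let g : H →* S := f.subgroupComap S
    have hg : Function.Surjective g := f.subgroupComap_surjective_of_surjective S hf
    have hgk : ∀ a : H, a ∈ g.ker ↔ (a : G) ∈ f.ker := by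
      intro a
      rw [MonoidHom.mem_ker, MonoidHom.mem_ker]
      constructor
      · intro h; exact congrArg Subtype.val h
      · intro h; exact Subtype.ext h
    have hgk' : g.ker = f.ker.subgroupOf H := by
      ext a
      rw [hgk, mem_subgroupOf]
    have hgc : Nat.card g.ker = 2 := by
      rw [hgk', Nat.card_congr (subgroupOfEquivOfLe hkH).toEquiv, h2]
    have hgc' : g.ker ≤ commutator H := by
      intro z hz
      have hz1 := (hgk z).1 hz
      have hz2 : (z : G) ^ 2 = 1 := by
        have := pow_card_eq_one' (x := (⟨z, hz1⟩ : f.ker))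
        rw [h2] at this
        exact congrArg Subtype.val this
      exact mem_commutator hperf H (by rw [hHi]; decide) (hc hz1) hz2 z.2
    have hpos := pos_of_double g hg hgc hgc' hS24
      ((index_commutator_congr e).trans index_commutator_perm_four)
    exact absurd (hyp H hHt) (not_le.2 hpos)
  · have h1 := Lib.PSL2Mult.ker_eq_bot (F := ZMod 7) (by rw [ZMod.card]; decide)
      (by rw [ZMod.card]; norm_num) (by rw [ZMod.card]; norm_num) hf hc hperf hodd
    rw [h1, Subgroup.card_bot] at hp
    exact Nat.not_prime_one hp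

/-- `SL₂(5)`. -/
theorem sl5 (hperf : commutator G = ⊤)
    (f : G →* SpecialLinearGroup (Fin 2) (ZMod 5)) (hf : Function.Surjective f)
    (hc : f.ker ≤ center G) (hp : (Nat.card f.ker).Prime) : False := by
  have : Fact (Nat.Prime 5) := ⟨by norm_num⟩
  obtain ⟨p, hpe⟩ : ∃ p, Nat.card f.ker = p := ⟨_, rfl⟩
  have hpp : p.Prime := hpe ▸ hp
  have hfp : Fact p.Prime := ⟨hpp⟩
  rcases hpp.eq_two_or_odd' with h2 | hodd
  · have h1 := OddHalf.NI.SLClosed.inj (F := ZMod 5) (by rw [ZMod.card]; decide) f hf hc
      (IsPGroup.of_card (n := 1) (by rw [hpe, h2, pow_one])) hperf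
    rw [← MonoidHom.ker_eq_bot_iff] at h1
    rw [h1, Subgroup.card_bot] at hp
    exact Nat.not_prime_one hp
  · have hG : commutator (SpecialLinearGroup (Fin 2) (ZMod 5)) = ⊤ := by
      rw [_root_.commutator_def, ← MonoidHom.range_eq_top.2 hf, MonoidHom.range_eq_map,
        ← map_commutator, ← _root_.commutator_def, hperf]
    refine Cfsg.Agent.S0102.result hG (p := p) (fun P => ?_) f hf hc hperf (by rw [hpe])
    have hv : (Nat.card (SpecialLinearGroup (Fin 2) (ZMod 5))).factorization p ≤ 1 := by
      rw [card_sl5]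
      by_contra hcon
      push Not at hcon
      have h1 : p ^ 2 ∣ 120 := (Nat.Prime.pow_dvd_iff_le_factorization hpp (by norm_num)).2 hcon
      have h3 : p ≤ 10 := by
        by_contra h4
        have := Nat.le_of_dvd (by norm_num) h1
        nlinarith
      interval_cases p <;> revert h1 hodd hpp <;> decide
    have hP := P.card_eq_multiplicity
    rcases Nat.le_one_iff_eq_zero_or_eq_one.1 hv with h | h
    · rw [h, pow_zero] at hP
      have : Subsingleton P := Finite.card_le_one_iff_subsingleton.1 hP.le
      infer_instance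
    · rw [h, pow_one] at hP
      exact isCyclic_of_prime_card hP

/-- `PSL₂(2 ^ q)`. -/
theorem even (hperf : commutator G = ⊤) {F : Type} [Field F] [Fintype F] {q : ℕ} (hq : 2 ≤ q)
    (hF : Fintype.card F = 2 ^ q) (f : G →* ProjectiveSpecialLinearGroup (Fin 2) F)
    (hf : Function.Surjective f) (hc : f.ker ≤ center G) (hp : (Nat.card f.ker).Prime) :
    Nonempty (G ≃* SpecialLinearGroup (Fin 2) (ZMod 5)) := by
  classical
  have h5 : Fact (Nat.Prime 5) := ⟨by norm_num⟩
  have h2 : Fact (Nat.Prime 2) := ⟨Nat.prime_two⟩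
  have hch : CharP F 2 := charP_of_card_eq_prime_pow hF
  obtain ⟨e⟩ := WeakTI.PslTwo.nonempty_equiv (F := F)
  have h4 : 4 ≤ Fintype.card F := by
    rw [hF]
    calc 4 = 2 ^ 2 := by norm_num
      _ ≤ 2 ^ q := Nat.pow_le_pow_right (by norm_num) hq
  have hs : IsSimpleGroup (ProjectiveSpecialLinearGroup (Fin 2) F) :=
    ProjectiveSpecialLinearGroup.rank_two_simple (by rwa [Nat.card_eq_fintype_card])
  have hcb : center (ProjectiveSpecialLinearGroup (Fin 2) F) = ⊥ := by
    rcases Subgroup.Normal.eq_bot_or_eq_top (H := center (ProjectiveSpecialLinearGroup (Fin 2) F))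
      inferInstance with h | h
    · exact h
    · exfalso
      have h1 : commutator (ProjectiveSpecialLinearGroup (Fin 2) F) = ⊤ := by
        rw [_root_.commutator_def, ← MonoidHom.range_eq_top.2 hf, MonoidHom.range_eq_map,
          ← map_commutator, ← _root_.commutator_def, hperf]
      have h3 : commutator (ProjectiveSpecialLinearGroup (Fin 2) F) = ⊥ := by
        rw [_root_.commutator_def, commutator_eq_bot_iff_le_centralizer]
        intro x _
        rw [mem_centralizer_iff]
        intro y _
        have hx : x ∈ center (ProjectiveSpecialLinearGroup (Fin 2) F) := by rw [h]; exact mem_top x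
        exact mem_center_iff.1 hx y
      rw [h1] at h3
      exact top_ne_bot h3
  have hker : f.ker = center G := by
    apply le_antisymm hc
    intro z hz
    rw [MonoidHom.mem_ker, ← mem_bot, ← hcb, mem_center_iff]
    intro y
    obtain ⟨x, rfl⟩ := hf y
    rw [← map_mul, ← map_mul, mem_center_iff.1 hz x]
  have hZ : (Nat.card (center G)).Prime := hker ▸ hp
  let f' : G →* SpecialLinearGroup (Fin 2) F := e.symm.toMonoidHom.comp f
  have hf' : Function.Surjective f' := e.symm.surjective.comp hf
  have hk' : f'.ker = center G := by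
    rw [← hker]
    ext x
    rw [MonoidHom.mem_ker, MonoidHom.mem_ker]
    exact (map_eq_one_iff e.symm e.symm.injective)
  have hu : ∀ x ∈ center G, ∀ y ∈ center G, x * x = 1 → y * y = 1 → x ≠ 1 → y ≠ 1 → x = y := by
    intro x hx y hy hx2 hy2 hx1 hy1
    have ho : orderOf (⟨x, hx⟩ : center G) = 2 := orderOf_eq_prime
      (Subtype.ext (by rw [sq]; exact hx2)) (fun h => hx1 (congrArg Subtype.val h))
    have h1 : 2 ∣ Nat.card (center G) := ho ▸ orderOf_dvd_natCard _
    have h3 : Nat.card (center G) = 2 := ((Nat.prime_dvd_prime_iff_eq Nat.prime_two hZ).1 h1).symm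
    obtain ⟨a, b, hab, huniv⟩ := Nat.card_eq_two_iff.1 h3
    have key : ∀ c : center G, c = a ∨ c = b := fun c => by
      have : c ∈ ({a, b} : Set (center G)) := by rw [huniv]; trivial
      exact this
    have e1 : (1 : center G) ≠ ⟨x, hx⟩ := fun h => hx1 (congrArg Subtype.val h).symm
    have e2 : (1 : center G) ≠ ⟨y, hy⟩ := fun h => hy1 (congrArg Subtype.val h).symm
    have e3 : (⟨x, hx⟩ : center G) = ⟨y, hy⟩ := by
      rcases key 1 with h | h <;> rcases key ⟨x, hx⟩ with h' | h' <;>
        rcases key ⟨y, hy⟩ with h'' | h'' <;>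
        first
        | exact h'.trans h''.symm
        | exact absurd (h.trans h'.symm) e1
        | exact absurd (h.trans h''.symm) e2
    exact congrArg Subtype.val e3
  rcases StdL2.Cover.main hperf hq hF f' hf' hk' hu with h | ⟨rfl, z, hz1, hz2, hz, -⟩
  · rw [h, Subgroup.card_bot] at hZ
    exact absurd hZ Nat.not_prime_one
  · -- `PSL₂(4) ≅ PSL₂(5)`
    obtain ⟨K, _, _, _, hK, ⟨g⟩⟩ := OddCyclic.T1Socle.exists_four (F := ZMod 5) (ZMod.card 5)
    have hcard : Fintype.card F = Fintype.card K := by rw [hF, hK]; norm_num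
    let e2 : SpecialLinearGroup (Fin 2) F ≃* SpecialLinearGroup (Fin 2) K :=
      LieClassical.FieldTransfer.slCongr (FiniteField.ringEquivOfCardEq hcard)
    let e3 : G ⧸ center G ≃* ProjectiveSpecialLinearGroup (Fin 2) (ZMod 5) :=
      (((QuotientGroup.quotientMulEquivOfEq hk'.symm).trans
        (QuotientGroup.quotientKerEquivOfSurjective f' hf')).trans e2).trans g.symm
    have hZ2 : IsPGroup 2 (center G) := by
      intro c
      refine ⟨1, ?_⟩
      rcases (hz c).1 c.2 with h | h
      · apply Subtype.ext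
        rw [pow_one, SubgroupClass.coe_pow, h, one_pow]; rfl
      · apply Subtype.ext
        rw [pow_one, SubgroupClass.coe_pow, h, sq, hz2]; rfl
    rcases OddCyclic.CoverTrans.sl_two_of_perfect hperf hZ2 (by
      rw [Nat.card_eq_fintype_card, ZMod.card]; decide) e3 with h | h
    · rw [h, Subgroup.card_bot] at hZ
      exact absurd hZ Nat.not_prime_one
    · exact h

end Cfsg.Agent.H604.AcdCaseA
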