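import Mathlib
import Cfsg.Agent.H604.AcdTools

/-!
# The action on an abelian normal subgroup
-/

set_option autoImplicit false
open Cfsg

namespace Cfsg.Agent.H604.AcdMod

open Cfsg.Agent.H604.Acd Cfsg.Agent.H604.AcdTools
open Subgroup

universe u v

variable {G : Type u} {K : Type v} [Group G] [Finite G] [Group K]

/-- The non-central case. -/
structure Setup (f : G →* K) (r : ℕ) : Prop where
  hyp : Hyp G
  ns : ¬ Group.IsSolvable G
  surj : Function.Surjective f
  rp : r.Prime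
  comm : ∀ a ∈ f.ker, ∀ b ∈ f.ker, a * b = b * a
  exp : ∀ a ∈ f.ker, a ^ r = 1
  nc : ∀ x, (∀ a ∈ f.ker, x * a = a * x) → ∀ l : ℕ, l.Prime → l ≠ 2 → f x ^ l = 1 → f x = 1

section

variable {f : G →* K} {r : ℕ}

/-- Conjugation by `x` on the kernel. -/
def sg (f : G →* K) (x : G) : MulAut f.ker := MulAut.conjNormal x

omit [Finite G] in
theorem sg_apply (x : G) (a : f.ker) : ((sg f x a : f.ker) : G) = x * a * x⁻¹ :=
  MulAut.conjNormal_apply x a

/-- The subgroup of the elements of the kernel commuting with `x`. -/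
def D (f : G →* K) (x : G) : Subgroup f.ker := (centralizer ({x} : Set G)).subgroupOf f.ker

omit [Finite G] in
theorem mem_D {x : G} {a : f.ker} : a ∈ D f x ↔ x * a = a * x := by
  rw [D, mem_subgroupOf, mem_centralizer_singleton_iff]
  exact eq_comm

omit [Finite G] in
theorem mem_D' {x : G} {a : f.ker} : a ∈ D f x ↔ sg f x a = a := by
  rw [mem_D, Subtype.ext_iff, sg_apply, mul_inv_eq_iff_eq_mul]

omit [Finite G] in
theorem Setup.sg_mul_ker (S : Setup f r) (x : G) {n : G} (hn : n ∈ f.ker) :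
    sg f (x * n) = sg f x := by
  ext a
  rw [sg_apply, sg_apply]
  have h := S.comm n hn a a.2
  calc x * n * a * (x * n)⁻¹ = x * (n * a) * n⁻¹ * x⁻¹ := by group
    _ = x * (a * n) * n⁻¹ * x⁻¹ := by rw [h]
    _ = x * a * x⁻¹ := by group

omit [Finite G] in
theorem Setup.sg_eq_one (S : Setup f r) {n : G} (hn : n ∈ f.ker) : sg f n = 1 := by
  have h := S.sg_mul_ker 1 hn
  rw [one_mul] at h
  rw [h]
  exact map_one (MulAut.conjNormal (H := f.ker))

omit [Finite G] in
theorem sg_mul (x y : G) : sg f (x * y) = sg f x * sg f y :=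
  map_mul (MulAut.conjNormal (H := f.ker)) x y

omit [Finite G] in
theorem sg_pow (x : G) (n : ℕ) : sg f (x ^ n) = sg f x ^ n :=
  map_pow (MulAut.conjNormal (H := f.ker)) x n

omit [Finite G] in
theorem sg_inv (x : G) : sg f x⁻¹ = (sg f x)⁻¹ :=
  map_inv (MulAut.conjNormal (H := f.ker)) x

omit [Finite G] in
theorem Setup.sg_pow_eq_one (S : Setup f r) {x : G} {l : ℕ} (hx : f x ^ l = 1) :
    sg f x ^ l = 1 := by
  rw [← sg_pow]
  exact S.sg_eq_one (by rw [MonoidHom.mem_ker, map_pow, hx])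

/-- The commutator map on the kernel. -/
def kp (S : Setup f r) (x : G) : f.ker →* f.ker where
  toFun a := sg f x a * a⁻¹
  map_one' := by simp
  map_mul' a b := by
    apply Subtype.ext
    have h1 : ∀ c d : f.ker, c * d = d * c := fun c d => Subtype.ext (S.comm c c.2 d d.2)
    congr 1
    calc sg f x (a * b) * (a * b)⁻¹ = sg f x a * ((sg f x b * b⁻¹) * a⁻¹) := by
          rw [map_mul]; group
      _ = sg f x a * (a⁻¹ * (sg f x b * b⁻¹)) := by rw [h1 (sg f x b * b⁻¹) a⁻¹]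
      _ = sg f x a * a⁻¹ * (sg f x b * b⁻¹) := by group

omit [Finite G] in
theorem kp_apply (S : Setup f r) (x : G) (a : f.ker) : kp S x a = sg f x a * a⁻¹ := rfl

omit [Finite G] in
theorem kp_ker (S : Setup f r) (x : G) : (kp S x).ker = D f x := by
  ext a
  rw [MonoidHom.mem_ker, kp_apply, mul_inv_eq_one, mem_D']

omit [Finite G] in
theorem card_range (S : Setup f r) (x : G) : Nat.card (kp S x).range = (D f x).index := by
  rw [← kp_ker S x, index_ker]

omit [Finite G] in
/-- The kernel is an `r`-group. -/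
theorem Setup.isPGroup (S : Setup f r) : IsPGroup r f.ker := fun a => ⟨1, by
  rw [pow_one]; exact Subtype.ext (S.exp a a.2)⟩

theorem Setup.index_eq (S : Setup f r) (x : G) : ∃ j, (D f x).index = r ^ j := by
  have : Fact r.Prime := ⟨S.rp⟩
  obtain ⟨n, hn⟩ := IsPGroup.iff_card.1 S.isPGroup
  have h : (D f x).index ∣ r ^ n := hn ▸ index_dvd_card _
  obtain ⟨j, -, hj⟩ := (Nat.dvd_prime_pow S.rp).1 h
  exact ⟨j, hj⟩

theorem Setup.index_modEq (S : Setup f r) {x : G} {l : ℕ} (hl : l.Prime) (hlr : l ≠ r)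
    (hx : f x ^ l = 1) : (D f x).index ≡ 1 [MOD l] := by
  have : Fact l.Prime := ⟨hl⟩
  have hrf : Fact r.Prime := ⟨S.rp⟩
  have hs := S.sg_pow_eq_one hx
  have hP : IsPGroup l (zpowers (sg f x)) := by
    rintro ⟨_, i, rfl⟩
    refine ⟨1, Subtype.ext ?_⟩
    show ((sg f x) ^ i) ^ (l ^ 1) = 1
    rw [pow_one, ← zpow_natCast, ← zpow_mul, mul_comm, zpow_mul, zpow_natCast, hs, one_zpow]
  have h1 := hP.card_modEq_card_fixedPoints f.ker
  have h2 : MulAction.fixedPoints (zpowers (sg f x)) f.ker = (D f x : Set f.ker) := by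
    ext a
    rw [MulAction.mem_fixedPoints, SetLike.mem_coe, mem_D']
    constructor
    · intro h
      exact h ⟨sg f x, mem_zpowers _⟩
    · rintro h ⟨_, i, rfl⟩
      show (sg f x ^ i) a = a
      have h3 : sg f x ∈ MulAction.stabilizer (MulAut f.ker) a := h
      exact zpow_mem h3 i
  rw [h2] at h1
  have h3 : Nat.card f.ker = (D f x).index * Nat.card (D f x) := by
    rw [mul_comm, card_mul_index]
  rw [h3] at h1
  have h4 : Nat.card (D f x) = 1 * Nat.card (D f x) := (one_mul _).symm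
  have h5 : (D f x).index * Nat.card (D f x) ≡ 1 * Nat.card (D f x) [MOD l] := by
    rw [one_mul]; exact h1
  refine Nat.ModEq.cancel_right_of_coprime ?_ h5
  obtain ⟨n, hn⟩ := IsPGroup.iff_card.1 (S.isPGroup.to_subgroup (D f x))
  rw [hn]
  exact Nat.Coprime.pow_right n ((Nat.coprime_primes hl S.rp).2 hlr)

omit [Finite G] in
theorem Setup.sup_ne_top (S : Setup f r) (x : G) : f.ker ⊔ zpowers x ≠ ⊤ := by
  intro htop
  apply S.ns
  have h1 := congrArg (Subgroup.map f) htop
  rw [Subgroup.map_sup, (Subgroup.map_eq_bot_iff f.ker).2 le_rfl, bot_sup_eq,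
    ← MonoidHom.range_eq_map, MonoidHom.range_eq_top.2 S.surj] at h1
  have h2 : ∀ a b : K, a * b = b * a := by
    intro a b
    have ha : a ∈ (zpowers x).map f := by rw [h1]; exact mem_top a
    have hb : b ∈ (zpowers x).map f := by rw [h1]; exact mem_top b
    obtain ⟨_, ⟨i, rfl⟩, rfl⟩ := ha
    obtain ⟨_, ⟨j, rfl⟩, rfl⟩ := hb
    rw [← map_mul, ← map_mul]
    congr 1
    exact ((Commute.refl x).zpow_zpow i j)
  have h3 : Group.IsSolvable K := Group.isSolvable_of_comm h2
  have h4 : Group.IsSolvable f.ker := Group.isSolvable_of_comm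
    (fun a b => Subtype.ext (S.comm a a.2 b b.2))
  exact Group.isSolvable_of_ker_le_range f.ker.subtype f (by rw [range_subtype])

theorem Setup.bound (S : Setup f r) {x : G} {l : ℕ} (hl : l.Prime) (h2 : l ≠ 2)
    (hx : f x ^ l = 1) (hx1 : f x ≠ 1) : (l - 2) * (D f x).index ≤ (l + 2) * (l - 1) := by
  have h3 : 3 ≤ l := by have := hl.two_le; omega
  exact AcdGrp.gen_bound f.ker S.comm x (fun a ha => by
    rw [MonoidHom.mem_ker, map_mul, map_mul, map_inv, MonoidHom.mem_ker.1 ha]; simp) hl h3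
    (by rw [MonoidHom.mem_ker, map_pow, hx]) hx1 (S.hyp _ (S.sup_ne_top x))

omit [Finite G] in
theorem Setup.index_ne_one (S : Setup f r) {x : G} {l : ℕ} (hl : l.Prime) (h2 : l ≠ 2)
    (hx : f x ^ l = 1) (hx1 : f x ≠ 1) : (D f x).index ≠ 1 := by
  intro h
  have h3 := index_eq_one.1 h
  refine hx1 (S.nc x (fun a ha => ?_) l hl h2 hx)
  have : (⟨a, ha⟩ : f.ker) ∈ D f x := by rw [h3]; exact mem_top _
  exact mem_D.1 this

/-- The arithmetic. -/
theorem numeric {l r m j : ℕ} (hl : l.Prime) (h2 : l ≠ 2) (hr : r.Prime) (hm : m = r ^ j)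
    (h1 : m ≠ 1) (hmod : m ≡ 1 [MOD l]) (hb : (l - 2) * m ≤ (l + 2) * (l - 1)) :
    (l = 3 ∧ (r = 2 ∧ m = 4 ∨ r = 7 ∧ m = 7)) ∨ (5 ≤ l ∧ r = 2 ∧ m = l + 1) := by
  have hm0 : 1 ≤ m := hm ▸ Nat.one_le_pow _ _ hr.pos
  have h3 : 3 ≤ l := by have := hl.two_le; omega
  obtain ⟨k, hk⟩ := (Nat.modEq_iff_dvd' hm0).1 hmod.symm
  have hk' : m = l * k + 1 := by omega
  have hk0 : 1 ≤ k := by
    rcases Nat.eq_zero_or_pos k with h | h
    · rw [h] at hk'; omega
    · exact h
  have hdiv : ∀ p : ℕ, p.Prime → p ∣ m → p = r := by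
    intro p hp hpm
    rw [hm] at hpm
    exact (Nat.prime_dvd_prime_iff_eq hp hr).1 (hp.dvd_of_dvd_pow hpm)
  by_cases h : l = 3
  · subst h
    left
    refine ⟨rfl, ?_⟩
    have : m ≤ 10 := by omega
    have hk3 : k ≤ 3 := by omega
    interval_cases k
    · left
      exact ⟨(hdiv 2 Nat.prime_two (by rw [hk']; norm_num)).symm, by omega⟩
    · right
      exact ⟨(hdiv 7 (by norm_num) (by rw [hk'])).symm, by omega⟩
    · exfalso
      have e1 := hdiv 2 Nat.prime_two (by rw [hk']; norm_num)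
      have e2 := hdiv 5 (by norm_num) (by rw [hk']; norm_num)
      omega
  · right
    have h5 : 5 ≤ l := by
      by_contra hcon
      have : l = 4 := by omega
      subst this
      exact absurd hl (by norm_num)
    obtain ⟨t, rfl⟩ : ∃ t, l = t + 5 := ⟨l - 5, by omega⟩
    have hk1 : k = 1 := by
      by_contra hcon
      have h2k : 2 ≤ k := by omega
      have e1 : t + 5 - 2 = t + 3 := by omega
      have e2 : t + 5 - 1 = t + 4 := by omega
      rw [e1, e2, hk'] at hb
      have e3 : (t + 3) * ((t + 5) * 2 + 1) ≤ (t + 3) * ((t + 5) * k + 1) := by gcongr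
      nlinarith
    rw [hk1, mul_one] at hk'
    refine ⟨h5, ?_, hk'⟩
    have hodd := hl.odd_of_ne_two h2
    have : 2 ∣ m := by
      obtain ⟨c, hc⟩ := hodd
      omega
    exact (hdiv 2 Nat.prime_two this).symm

/-- Elements of odd prime order of `K`. -/
theorem Setup.cases (S : Setup f r) {x : G} {l : ℕ} (hl : l.Prime) (h2 : l ≠ 2)
    (hx : f x ^ l = 1) (hx1 : f x ≠ 1) (hlr : l ≠ r) :
    (l = 3 ∧ (r = 2 ∧ (D f x).index = 4 ∨ r = 7 ∧ (D f x).index = 7)) ∨
      (5 ≤ l ∧ r = 2 ∧ (D f x).index = l + 1) := by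
  obtain ⟨j, hj⟩ := S.index_eq x
  exact numeric hl h2 S.rp hj (S.index_ne_one hl h2 hx hx1) (S.index_modEq hl hlr hx)
    (S.bound hl h2 hx hx1)

omit [Finite G] in
theorem Setup.exists_elt (S : Setup f r) [Finite K] {l : ℕ} (hl : l.Prime)
    (hd : l ∣ Nat.card K) : ∃ x : G, f x ^ l = 1 ∧ f x ≠ 1 := by
  have : Fact l.Prime := ⟨hl⟩
  obtain ⟨y, hy⟩ := exists_prime_orderOf_dvd_card' l hd
  obtain ⟨x, rfl⟩ := S.surj y
  refine ⟨x, by rw [← hy, pow_orderOf_eq_one], ?_⟩
  intro h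
  rw [h, orderOf_one] at hy
  exact hl.one_lt.ne hy

/-- The general contradiction. -/
theorem Setup.false_of_primes (S : Setup f r) [Finite K] {l₁ l₂ : ℕ} (h1 : l₁.Prime)
    (h2 : l₂.Prime) (h5 : 5 ≤ l₁) (hl2 : l₂ ≠ 2) (hne : l₁ ≠ l₂) (hM : ∀ s, l₁ + 1 ≠ 2 ^ s)
    (hd1 : l₁ ∣ Nat.card K) (hd2 : l₂ ∣ Nat.card K) : False := by
  have hr : r = l₁ := by
    by_contra hcon
    obtain ⟨x, hx, hx1⟩ := S.exists_elt h1 hd1
    rcases S.cases h1 (by omega) hx hx1 (Ne.symm hcon) with h | h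
    · omega
    · obtain ⟨j, hj⟩ := S.index_eq x
      rw [h.2.1, h.2.2] at hj
      exact hM j hj
  obtain ⟨x, hx, hx1⟩ := S.exists_elt h2 hd2
  rcases S.cases h2 hl2 hx hx1 (by rw [hr]; exact Ne.symm hne) with ⟨-, h | h⟩ | h
  · omega
  · exact hM 3 (by omega)
  · omega

/-! ### The image of the commutator map -/

omit [Finite G] in
/-- `σ` has no nontrivial fixed points on the image of the commutator map. -/
theorem Setup.fix_range (S : Setup f r) {x : G} {l : ℕ} (hlr : l.Coprime r)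
    (hx : f x ^ l = 1) {v : f.ker} (hv : v ∈ (kp S x).range) (hv' : sg f x v = v) : v = 1 := by
  obtain ⟨w, rfl⟩ := hv
  set v := kp S x w with hvdef
  -- `σ w = v w`, `σ^i w = v^i w`
  have h1 : sg f x w = v * w := by
    rw [hvdef, kp_apply, inv_mul_cancel_right]
  have h2 : ∀ i : ℕ, (sg f x ^ i) w = v ^ i * w := by
    intro i
    induction i with
    | zero => simp
    | succ i ih =>
      rw [pow_succ', MulAut.mul_apply, ih, map_mul, map_pow, hv', h1, ← mul_assoc, ← pow_succ]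
  have h3 := h2 l
  rw [S.sg_pow_eq_one hx, MulAut.one_apply] at h3
  have h4 : v ^ l = 1 := by
    have : 1 * w = v ^ l * w := by rw [one_mul]; exact h3
    exact (mul_right_cancel this).symm
  have h5 : v ^ r = 1 := Subtype.ext (S.exp v v.2)
  have h6 := Nat.Coprime.eq_one_of_dvd (Nat.Coprime.coprime_dvd_left
    (orderOf_dvd_of_pow_eq_one h4) hlr) (orderOf_dvd_of_pow_eq_one h5)
  exact orderOf_eq_one_iff.1 h6

theorem Setup.r_ne_three (S : Setup f r) [Finite K] (h7 : 7 ∣ Nat.card K) : r ≠ 3 := by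
  rintro rfl
  obtain ⟨x, hx, hx1⟩ := S.exists_elt (l := 7) (by norm_num) h7
  rcases S.cases (by norm_num) (by norm_num) hx hx1 (by norm_num) with h | h
  · omega
  · omega

/-- The case of an element of order `9`. -/
theorem Setup.false_of_nine (S : Setup f r) [Finite K] (h7 : 7 ∣ Nat.card K) {y : G}
    (hy : f y ^ 9 = 1) (hy3 : f y ^ 3 ≠ 1) : False := by
  classical
  have hr3 := S.r_ne_three h7
  have hx : f (y ^ 3) ^ 3 = 1 := by rw [map_pow, ← pow_mul]; exact hy
  have hx1 : f (y ^ 3) ≠ 1 := by rw [map_pow]; exact hy3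
  have hidx : (D f (y ^ 3)).index ≤ 7 ∧ 1 < (D f (y ^ 3)).index := by
    rcases S.cases Nat.prime_three (by norm_num) hx hx1 (Ne.symm hr3) with h | h <;> omega
  set σ := sg f y with hσ
  have hσ3 : sg f (y ^ 3) = σ ^ 3 := sg_pow y 3
  have hσ9 : σ ^ 9 = 1 := S.sg_pow_eq_one hy
  set I := (kp S (y ^ 3)).range with hI
  have hcard : Nat.card I = (D f (y ^ 3)).index := card_range S _
  have hσI : ∀ v ∈ I, σ v ∈ I := by
    rintro _ ⟨w, rfl⟩
    refine ⟨σ w, ?_⟩
    rw [kp_apply, kp_apply, hσ3, map_mul, map_inv, ← MulAut.mul_apply, ← MulAut.mul_apply,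
      ← pow_succ, ← pow_succ']
  have hσI' : ∀ i : ℕ, ∀ v ∈ I, (σ ^ i) v ∈ I := by
    intro i
    induction i with
    | zero => intro v hv; simpa using hv
    | succ i ih => intro v hv; rw [pow_succ', MulAut.mul_apply]; exact hσI _ (ih v hv)
  have hnt : Nontrivial I := Finite.one_lt_card_iff_nontrivial.1 (by omega)
  obtain ⟨⟨v, hv⟩, hv1⟩ := exists_ne (1 : I)
  have hv1' : v ≠ 1 := fun h => hv1 (Subtype.ext h)
  -- pigeonhole
  have hpig : ∃ i j : Fin 9, i ≠ j ∧ (σ ^ (i : ℕ)) v = (σ ^ (j : ℕ)) v := by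
    by_contra hcon
    push Not at hcon
    have hinj : Function.Injective (fun i : Fin 9 => (⟨(σ ^ (i : ℕ)) v, hσI' i v hv⟩ : I)) := by
      intro i j hij
      by_contra hne
      exact hcon i j hne (congrArg Subtype.val hij)
    have := Nat.card_le_card_of_injective _ hinj
    rw [Nat.card_fin] at this
    omega
  have hpig' : ∃ d : ℕ, 0 < d ∧ d < 9 ∧ (σ ^ d) v = v := by
    obtain ⟨i, j, hne, hij⟩ := hpig
    have key : ∀ i j : ℕ, i < j → (σ ^ i) v = (σ ^ j) v → (σ ^ (j - i)) v = v := by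
      intro i j hlt h
      have h1 : σ ^ j = σ ^ i * σ ^ (j - i) := by rw [← pow_add]; congr 1; omega
      rw [h1, MulAut.mul_apply] at h
      exact ((σ ^ i).injective h).symm
    rcases lt_or_gt_of_ne (fun h => hne (Fin.ext h) : (i : ℕ) ≠ j) with h | h
    · exact ⟨j - i, by omega, by omega, key i j h hij⟩
    · exact ⟨i - j, by omega, by omega, key j i h hij.symm⟩
  obtain ⟨d, hd0, hd9, hd⟩ := hpig'
  have hpow : ∀ n : ℕ, (σ ^ (d * n)) v = v := by
    intro n
    have h3 : σ ^ d ∈ MulAction.stabilizer (MulAut f.ker) v := hd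
    have h4 := pow_mem h3 n
    rw [← pow_mul] at h4
    exact h4
  have h3 : (σ ^ 3) v = v := by
    have key : ∀ n k : ℕ, d * n = 3 + 9 * k → (σ ^ 3) v = v := by
      intro n k hnk
      have h4 := hpow n
      rw [hnk, pow_add, pow_mul, hσ9, one_pow, mul_one] at h4
      exact h4
    interval_cases d
    · exact key 3 0 (by norm_num)
    · exact key 6 1 (by norm_num)
    · exact key 1 0 (by norm_num)
    · exact key 3 1 (by norm_num)
    · exact key 6 3 (by norm_num)
    · exact key 5 3 (by norm_num)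
    · exact key 3 2 (by norm_num)
    · exact key 6 5 (by norm_num)
  refine hv1' (S.fix_range (l := 3) ?_ hx hv (by rw [hσ3]; exact h3))
  exact (Nat.coprime_primes Nat.prime_three S.rp).2 (Ne.symm hr3)

/-- `r = 7` is impossible if there is a real element of order three. -/
theorem Setup.ne_seven (S : Setup f r) {x t : G} (hx : f x ^ 3 = 1) (hx1 : f x ≠ 1)
    (ht : f t * f x * (f t)⁻¹ = (f x)⁻¹) : r ≠ 7 := by
  rintro rfl
  have h7 : (D f x).index = 7 := by
    rcases S.cases Nat.prime_three (by norm_num) hx hx1 (by norm_num) with h | h <;> omega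
  set σ := sg f x with hσ
  set τ := sg f t with hτ
  have hσ3 : σ ^ 3 = 1 := S.sg_pow_eq_one hx
  have hrel : σ * τ * σ = τ := by
    -- `x t x t⁻¹ ∈ N`
    have h1 : t * (t⁻¹ * (x * t * x)) = x * t * x := by group
    have h2 : t⁻¹ * (x * t * x) ∈ f.ker := by
      rw [MonoidHom.mem_ker, map_mul, map_mul, map_mul, map_inv]
      have h3 : f t * f x = (f x)⁻¹ * f t := by
        rw [← ht]; group
      rw [mul_assoc (f x), h3]; group
    have h4 := S.sg_mul_ker t h2
    rw [h1, sg_mul, sg_mul] at h4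
    exact h4
  set I := (kp S x).range with hI
  have hcard : Nat.card I = 7 := (card_range S _).trans h7
  have hτI : ∀ v ∈ I, τ v ∈ I := by
    rintro _ ⟨w, rfl⟩
    -- `τ (σ w w⁻¹) = σ⁻¹ τ w (τ w)⁻¹`
    have h1 : ∀ z, σ (τ (σ z)) = τ z := fun z => by
      conv_rhs => rw [← hrel]
      rfl
    rw [kp_apply, map_mul, map_inv]
    refine inv_mem_iff.1 ⟨τ (σ w), ?_⟩
    rw [kp_apply, ← hσ, h1, mul_inv_rev, inv_inv]
  have hfact : Fact (Nat.Prime 7) := ⟨by norm_num⟩
  have hnt : Nontrivial I := Finite.one_lt_card_iff_nontrivial.1 (by omega)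
  obtain ⟨⟨v, hv⟩, hv1⟩ := exists_ne (1 : I)
  have hv1' : v ≠ 1 := fun h => hv1 (Subtype.ext h)
  have hgen : ∀ u ∈ I, ∃ i : ℤ, v ^ i = u := by
    intro u hu
    have h1 := zpowers_eq_top_of_prime_card hcard hv1
    have h2 : (⟨u, hu⟩ : I) ∈ zpowers (⟨v, hv⟩ : I) := by rw [h1]; exact mem_top _
    obtain ⟨i, hi⟩ := h2
    exact ⟨i, congrArg Subtype.val hi⟩
  have hσI : ∀ v ∈ I, σ v ∈ I := by
    rintro _ ⟨w, rfl⟩
    exact ⟨σ w, by rw [kp_apply, kp_apply, map_mul, map_inv]⟩
  obtain ⟨a, ha⟩ := hgen _ (hσI v hv)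
  obtain ⟨b, hb⟩ := hgen _ (hτI v hv)
  -- `σ τ σ v = τ v`
  have h1 : σ (τ (σ v)) = τ v := by
    conv_rhs => rw [← hrel]
    rfl
  have h2 : σ (σ (τ v)) = τ v := by
    have e1 : τ (σ v) = σ (τ v) := by
      rw [← ha, map_zpow, ← hb, map_zpow, ← ha, ← zpow_mul, ← zpow_mul, mul_comm]
    rw [← e1]; exact h1
  have h3 : σ (τ v) = τ v := by
    have e1 : (σ ^ 3) (τ v) = σ (σ (σ (τ v))) := rfl
    rw [hσ3, MulAut.one_apply, h2] at e1
    exact e1.symm
  have h4 := S.fix_range (l := 3) (by norm_num) hx (hτI v hv) h3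
  exact hv1' (τ.injective (by rw [h4, map_one]))

end

/-- The counting argument for the group `2³ : 7 : 3`. -/
theorem pos_of_twentyone {R : Type u} [Group R] [Finite R] (A : Subgroup R) [A.Normal]
    (hA : ∀ a ∈ A, ∀ b ∈ A, a * b = b * a) (hi : A.index = 21)
    (h56 : 56 ≤ Nat.card (commutator R)) : 0 < dd R := by
  classical
  have hfin : Finite (IrrCharacter R) := Characters.Core.finite_irr
  have := Fintype.ofFinite (IrrCharacter R)
  have hterm : ∀ χ : IrrCharacter R, 19 * (charDegree (χ : R → ℂ) : ℤ) ^ 2 -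
      (if charDegree (χ : R → ℂ) = 1 then 460 else 0) ≤
        441 * ((charDegree (χ : R → ℂ) : ℤ) - 2) := by
    intro χ
    have h1 := deg_dvd_index A hA χ
    rw [hi] at h1
    have h2 : charDegree (χ : R → ℂ) ∈ Nat.divisors 21 := Nat.mem_divisors.2 ⟨h1, by norm_num⟩
    have h3 : Nat.divisors 21 = {1, 3, 7, 21} := by decide
    rw [h3] at h2
    simp only [Finset.mem_insert, Finset.mem_singleton] at h2
    rcases h2 with h | h | h | h <;> rw [h] <;> norm_num
  have hsum := Finset.sum_le_sum fun χ (_ : χ ∈ (Finset.univ : Finset (IrrCharacter R))) => hterm χ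
  rw [← Finset.mul_sum, ← dd_eq, Finset.sum_sub_distrib, ← Finset.mul_sum] at hsum
  have h1 : ∑ χ : IrrCharacter R, (charDegree (χ : R → ℂ) : ℤ) ^ 2 = Nat.card R := by
    rw [← sum_sq]; push_cast; rfl
  have h2 : ∑ χ : IrrCharacter R, (if charDegree (χ : R → ℂ) = 1 then (460 : ℤ) else 0) =
      460 * (commutator R).index := by
    rw [← Finset.sum_filter, Finset.sum_const, card_linear, nsmul_eq_mul, mul_comm]
  rw [h1, h2] at hsum
  have h3 := card_mul_index (commutator R)
  have h4 : 56 * (commutator R).index ≤ Nat.card R := by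
    rw [← h3]; exact Nat.mul_le_mul_right _ h56
  have h5 : 0 < (commutator R).index := Nat.pos_of_ne_zero index_ne_zero_of_finite
  have h6 : (56 : ℤ) * (commutator R).index ≤ Nat.card R := by exact_mod_cast h4
  have h7 : (0 : ℤ) < (commutator R).index := by exact_mod_cast h5
  linarith

theorem Setup.ne_two {f : G →* K} {r : ℕ} (S : Setup f r) (R₀ : Subgroup K)
    (hR₀ : R₀ ≠ ⊤) (h21 : Nat.card R₀ = 21) (hc : Nat.card (commutator R₀) = 7) : r ≠ 2 := by
  classical
  rintro rfl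
  have hf7 : Fact (Nat.Prime 7) := ⟨by norm_num⟩
  have hfin : Finite R₀ := Nat.finite_of_card_ne_zero (by omega)
  obtain ⟨x₀, hx₀⟩ := exists_prime_orderOf_dvd_card' (G := R₀) 7 (by rw [h21]; norm_num)
  obtain ⟨x, hx⟩ := S.surj x₀
  have hx7 : f x ^ 7 = 1 := by
    rw [hx, ← SubgroupClass.coe_pow, ← hx₀, pow_orderOf_eq_one]; rfl
  have hx1 : f x ≠ 1 := by
    rw [hx]
    intro h
    have h1 : x₀ = 1 := Subtype.ext h
    rw [h1, orderOf_one] at hx₀
    omega
  have h8 : (D f x).index = 8 := by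
    rcases S.cases (by norm_num) (by norm_num) hx7 hx1 (by norm_num) with h | h <;> omega
  set R := R₀.comap f with hR
  have hxR : x ∈ R := by rw [hR, mem_comap, hx]; exact x₀.2
  have hkR : f.ker ≤ R := fun a ha => by
    rw [hR, mem_comap, MonoidHom.mem_ker.1 ha]; exact one_mem _
  have hRt : R ≠ ⊤ := by
    intro h0
    apply hR₀
    rw [← Subgroup.map_comap_eq_self_of_surjective S.surj R₀, ← hR, h0, ← MonoidHom.range_eq_map,
      MonoidHom.range_eq_top.2 S.surj]
  let g : R →* R₀ := f.subgroupComap R₀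
  have hg : Function.Surjective g := f.subgroupComap_surjective_of_surjective R₀ S.surj
  have hgk : ∀ a : R, a ∈ g.ker ↔ (a : G) ∈ f.ker := by
    intro a
    rw [MonoidHom.mem_ker, MonoidHom.mem_ker]
    constructor
    · intro h; exact congrArg Subtype.val h
    · intro h; exact Subtype.ext h
  have hA : ∀ a ∈ g.ker, ∀ b ∈ g.ker, a * b = b * a := fun a ha b hb =>
    Subtype.ext (S.comm a ((hgk a).1 ha) b ((hgk b).1 hb))
  have hi : g.ker.index = 21 := by
    rw [index_ker, MonoidHom.range_eq_top.2 hg, Subgroup.card_top, h21]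
  set L := commutator R with hL
  have hLmap : L.map g = commutator R₀ := by
    rw [hL, _root_.commutator_def, map_commutator, ← MonoidHom.range_eq_map,
      MonoidHom.range_eq_top.2 hg, _root_.commutator_def]
  let g' := g.subgroupMap L
  have hg' : Function.Surjective g' := g.subgroupMap_surjective L
  have hL7 : Nat.card (L.map g) = 7 := by rw [hLmap, hc]
  have hL1 : Nat.card g'.ker * 7 = Nat.card L := by
    rw [← card_mul_index g'.ker, index_ker, MonoidHom.range_eq_top.2 hg', Subgroup.card_top, hL7]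
  have hL2 : 8 ≤ Nat.card g'.ker := by
    rw [← h8, ← card_range S x]
    have hmem : ∀ v : (kp S x).range, (⟨(v : f.ker), hkR v.1.2⟩ : R) ∈ L := by
      rintro ⟨_, w, rfl⟩
      have h1 : (⟨((kp S x w : f.ker) : G), hkR (kp S x w).2⟩ : R) =
          (⟨x, hxR⟩ : R) * (⟨w, hkR w.2⟩ : R) * (⟨x, hxR⟩ : R)⁻¹ * (⟨w, hkR w.2⟩ : R)⁻¹ := by
        apply Subtype.ext
        show ((sg f x w * w⁻¹ : f.ker) : G) = x * w * x⁻¹ * (w : G)⁻¹
        rw [Subgroup.coe_mul, sg_apply]
        rfl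
      rw [h1]
      exact commutator_mem_commutator (mem_top _) (mem_top _)
    refine Nat.card_le_card_of_injective (fun v : (kp S x).range =>
      (⟨⟨⟨(v : f.ker), hkR v.1.2⟩, hmem v⟩, ?_⟩ : g'.ker)) ?_
    · rw [MonoidHom.mem_ker]
      apply Subtype.ext
      exact MonoidHom.mem_ker.1 ((hgk ⟨(v : f.ker), hkR v.1.2⟩).2 v.1.2)
    · intro v w hvw
      have h1 := congrArg (fun z : g'.ker => (((z : L) : R) : G)) hvw
      exact Subtype.ext (Subtype.ext h1)
  have hpos := pos_of_twentyone g.ker hA hi (by rw [← hL, ← hL1]; omega)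
  exact absurd (S.hyp R hRt) (not_le.2 hpos)

end Cfsg.Agent.H604.AcdMod
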