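import Mathlib
import Cfsg.Agent.H604.AcdMod
import Cfsg.Agent.H604.AcdCaseA
import Cfsg.Agent.ClassicalGeometry.PSLTorus

/-!
# The non-central case
-/

set_option autoImplicit false
open Cfsg

namespace Cfsg.Agent.H604.AcdCaseB

open Cfsg.Agent.H604.Acd Cfsg.Agent.H604.AcdTools Cfsg.Agent.H604.AcdMod
open Cfsg.Agent.H604.AcdCentral
open Subgroup Matrix

universe u v

/-- Proper normal subgroups contain no elements of odd prime order. -/
def PN (K : Type v) [Group K] : Prop :=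
  ∀ M : Subgroup K, M.Normal → M ≠ ⊤ → ∀ y ∈ M, ∀ l : ℕ, l.Prime → l ≠ 2 → y ^ l = 1 → y = 1

theorem pn_simple {K : Type v} [Group K] (hs : IsSimpleGroup K) : PN K := by
  intro M hM hMt y hy l _ _ _
  rcases hM.eq_bot_or_eq_top with h | h
  · rwa [h, mem_bot] at hy
  · exact absurd h hMt

theorem pn_sl5 (hperf : commutator (SpecialLinearGroup (Fin 2) (ZMod 5)) = ⊤) :
    PN (SpecialLinearGroup (Fin 2) (ZMod 5)) := by
  intro M hM hMt y hy l hl hl2 hyl
  have hfact : Fact (Nat.Prime 5) := ⟨by norm_num⟩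
  have hs : IsSimpleGroup (ProjectiveSpecialLinearGroup (Fin 2) (ZMod 5)) :=
    ProjectiveSpecialLinearGroup.rank_two_simple (by rw [Nat.card_zmod]; norm_num)
  set Z := center (SpecialLinearGroup (Fin 2) (ZMod 5)) with hZ
  let π : SpecialLinearGroup (Fin 2) (ZMod 5) →* ProjectiveSpecialLinearGroup (Fin 2) (ZMod 5) :=
    QuotientGroup.mk' Z
  have hπ : Function.Surjective π := QuotientGroup.mk'_surjective Z
  have hn : (M.map π).Normal := hM.map π hπ
  rcases hn.eq_bot_or_eq_top with h | h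
  · have h1 : M ≤ Z := by
      rw [Subgroup.map_eq_bot_iff, QuotientGroup.ker_mk'] at h
      exact h
    have h2 : y ^ 2 = 1 := by
      rcases ClassicalGeometry.PSL2Basic.mem_center_SL2_iff.1 (h1 hy) with h3 | h3
      · rw [h3, one_pow]
      · rw [h3, neg_one_sq]
    have h3 : Nat.Coprime 2 l := (Nat.coprime_primes Nat.prime_two hl).2 (Ne.symm hl2)
    have h4 := Nat.Coprime.eq_one_of_dvd (Nat.Coprime.coprime_dvd_left
      (orderOf_dvd_of_pow_eq_one h2) h3) (orderOf_dvd_of_pow_eq_one hyl)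
    exact orderOf_eq_one_iff.1 h4
  · exfalso
    apply hMt
    rw [← top_le_iff, ← hperf, _root_.commutator_def, commutator_le]
    have key : ∀ a : SpecialLinearGroup (Fin 2) (ZMod 5), ∃ m ∈ M, ∃ z ∈ Z, a = m * z := by
      intro a
      have h1 : π a ∈ M.map π := by rw [h]; exact mem_top _
      obtain ⟨m, hm, hma⟩ := h1
      exact ⟨m, hm, m⁻¹ * a, QuotientGroup.eq.1 hma, by group⟩
    intro a _ b _
    obtain ⟨m, hm, z, hz, rfl⟩ := key a
    obtain ⟨n, hn, w, hw, rfl⟩ := key b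
    have hz' := mem_center_iff.1 hz
    have hw' := mem_center_iff.1 hw
    have : m * z * (n * w) * (m * z)⁻¹ * (n * w)⁻¹ = m * n * m⁻¹ * n⁻¹ := by
      calc m * z * (n * w) * (m * z)⁻¹ * (n * w)⁻¹ =
          m * (z * n) * w * z⁻¹ * m⁻¹ * w⁻¹ * n⁻¹ := by group
        _ = m * (n * z) * w * z⁻¹ * m⁻¹ * w⁻¹ * n⁻¹ := by rw [hz']
        _ = m * n * (z * w) * z⁻¹ * m⁻¹ * w⁻¹ * n⁻¹ := by group
        _ = m * n * (w * z) * z⁻¹ * m⁻¹ * w⁻¹ * n⁻¹ := by rw [hz' w]
        _ = m * n * (w * m⁻¹) * w⁻¹ * n⁻¹ := by group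
        _ = m * n * (m⁻¹ * w) * w⁻¹ * n⁻¹ := by rw [hw']
        _ = m * n * m⁻¹ * n⁻¹ := by group
    show m * z * (n * w) * (m * z)⁻¹ * (n * w)⁻¹ ∈ M
    rw [this]
    exact mul_mem (mul_mem (mul_mem hm hn) (inv_mem hm)) (inv_mem hn)

variable {G : Type u} [Group G] [Finite G]

omit [Finite G] in
/-- Setting up the noncentral case. -/
theorem setup {K : Type v} [Group K] (hyp : Hyp G) (hG : ¬ Group.IsSolvable G) (f : G →* K)
    (hf : Function.Surjective f) {r : ℕ} (hr : r.Prime)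
    (hcomm : ∀ a ∈ f.ker, ∀ b ∈ f.ker, a * b = b * a) (hexp : ∀ a ∈ f.ker, a ^ r = 1)
    (hnc : ¬ f.ker ≤ center G) (hPN : PN K) : Setup f r where
  hyp := hyp
  ns := hG
  surj := hf
  rp := hr
  comm := hcomm
  exp := hexp
  nc := by
    intro x hx l hl hl2 hxl
    set C := centralizer (f.ker : Set G) with hC
    have hCn : C.Normal := inferInstance
    have hCt : C ≠ ⊤ := by
      intro h
      apply hnc
      intro a ha
      rw [mem_center_iff]
      intro g
      have hg : g ∈ C := by rw [h]; exact mem_top g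
      exact (mem_centralizer_iff.1 hg a ha).symm
    have hkC : f.ker ≤ C := fun a ha => by
      rw [hC, mem_centralizer_iff]
      intro b hb
      exact hcomm b hb a ha
    have hm : C.map f ≠ ⊤ := by
      intro h
      apply hCt
      have h1 := Subgroup.comap_map_eq f C
      rw [h, comap_top, sup_eq_left.2 hkC] at h1
      exact h1.symm
    refine hPN (C.map f) (hCn.map f hf) hm (f x) (mem_map_of_mem f ?_) l hl hl2 hxl
    rw [hC, mem_centralizer_iff]
    intro a ha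
    exact (hx a ha).symm

/-- `SL₂(5)`. -/
theorem sl5 {f : G →* SpecialLinearGroup (Fin 2) (ZMod 5)} {r : ℕ} (S : Setup f r) : False := by
  have hfact : Fact (Nat.Prime 5) := ⟨by norm_num⟩
  refine S.false_of_primes (l₁ := 5) (l₂ := 3) (by norm_num) Nat.prime_three le_rfl (by norm_num)
    (by norm_num) ?_ (by rw [AcdCaseA.card_sl5]; norm_num) (by rw [AcdCaseA.card_sl5]; norm_num)
  intro s hs
  have h1 : s < 3 := by
    by_contra hcon
    have : 2 ^ 3 ≤ 2 ^ s := Nat.pow_le_pow_right (by norm_num) (by omega)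
    omega
  interval_cases s <;> omega

/-- `PSL₂(7)`. -/
theorem psl7 {f : G →* ProjectiveSpecialLinearGroup (Fin 2) (ZMod 7)} {r : ℕ} (S : Setup f r) :
    False := by
  have hfact : Fact (Nat.Prime 7) := ⟨by norm_num⟩
  have h7 : 7 ∣ Nat.card (ProjectiveSpecialLinearGroup (Fin 2) (ZMod 7)) := by
    rw [AcdCaseA.card_psl7]; norm_num
  have hr3 := S.r_ne_three h7
  obtain ⟨R, hR, h21, hc⟩ := AcdBorel.exists_twentyone
  have hr2 := S.ne_two R hR h21 hc
  obtain ⟨S4, ⟨e⟩⟩ := exists_s4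
  let ρ : Equiv.Perm (Fin 4) := c[0, 1, 2]
  let τ : Equiv.Perm (Fin 4) := Equiv.swap 0 1
  have hρ : ρ ^ 3 = 1 := by decide
  have hρ1 : ρ ≠ 1 := by decide
  have hτ : τ * ρ * τ⁻¹ = ρ⁻¹ := by decide
  obtain ⟨x, hx⟩ := S.surj (e.symm ρ : ProjectiveSpecialLinearGroup (Fin 2) (ZMod 7))
  obtain ⟨t, ht⟩ := S.surj (e.symm τ : ProjectiveSpecialLinearGroup (Fin 2) (ZMod 7))
  have hx3 : f x ^ 3 = 1 := by
    rw [hx, ← SubgroupClass.coe_pow, ← map_pow, hρ, map_one]; rfl
  have hx1 : f x ≠ 1 := by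
    rw [hx]
    intro h
    exact hρ1 (e.symm.injective (by rw [map_one]; exact Subtype.ext h))
  have htx : f t * f x * (f t)⁻¹ = (f x)⁻¹ := by
    rw [hx, ht]
    have := congrArg (fun z => ((e.symm z : S4) : ProjectiveSpecialLinearGroup (Fin 2) (ZMod 7))) hτ
    simp only [map_mul, map_inv, Subgroup.coe_mul, Subgroup.coe_inv] at this
    exact this
  have hr7 := S.ne_seven hx3 hx1 htx
  rcases S.cases Nat.prime_three (by norm_num) hx3 hx1 (Ne.symm hr3) with h | h <;> omega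

/-- A prime divisor. -/
theorem exists_prime {q : ℕ} (hq : q.Prime) (h5 : 5 ≤ q) :
    3 ∣ 2 ^ q + 1 ∧ ∃ l : ℕ, l.Prime ∧ 5 ≤ l ∧ l ∣ 2 ^ q + 1 ∧ ∀ s, l + 1 ≠ 2 ^ s := by
  have hmod : q % 6 = 1 ∨ q % 6 = 5 := by
    have h2 : ¬ 2 ∣ q := fun h => by
      have := (Nat.prime_dvd_prime_iff_eq Nat.prime_two hq).1 h
      omega
    have h3 : ¬ 3 ∣ q := fun h => by
      have := (Nat.prime_dvd_prime_iff_eq Nat.prime_three hq).1 h
      omega
    omega
  have h9 : (2 ^ q + 1) % 9 = 3 ∨ (2 ^ q + 1) % 9 = 6 := by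
    have e : q = 6 * (q / 6) + q % 6 := (Nat.div_add_mod q 6).symm
    have e1 : 2 ^ q % 9 = 2 ^ (q % 6) % 9 := by
      conv_lhs => rw [e, pow_add, pow_mul, Nat.mul_mod, Nat.pow_mod]
      norm_num
    rcases hmod with h | h
    · left; rw [Nat.add_mod, e1, h]; rfl
    · right; rw [Nat.add_mod, e1, h]; rfl
  have h3 : 3 ∣ 2 ^ q + 1 := by omega
  refine ⟨h3, ?_⟩
  obtain ⟨c, hc⟩ := h3
  have hbig : 2 ^ 5 ≤ 2 ^ q := Nat.pow_le_pow_right (by norm_num) h5
  have hc1 : c ≠ 1 := by rintro rfl; omega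
  obtain ⟨l, hl, hlc⟩ := Nat.exists_prime_and_dvd hc1
  have hodd : 2 ^ q % 2 = 0 := by
    obtain ⟨m, rfl⟩ : ∃ m, q = m + 1 := ⟨q - 1, by omega⟩
    rw [pow_succ]; omega
  have hl2 : l ≠ 2 := by
    rintro rfl
    obtain ⟨d, rfl⟩ := hlc
    omega
  have hl3 : l ≠ 3 := by
    rintro rfl
    obtain ⟨d, rfl⟩ := hlc
    omega
  have hl5 : 5 ≤ l := by
    have := hl.two_le
    by_contra hcon
    have : l = 4 := by omega
    subst this
    exact absurd hl (by norm_num)
  have hld : l ∣ 2 ^ q + 1 := hc ▸ Dvd.dvd.mul_left hlc 3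
  refine ⟨l, hl, hl5, hld, ?_⟩
  intro s hs
  have hls : l = 2 ^ s - 1 := by omega
  have h2q : l ∣ 2 ^ (2 * q) - 1 := by
    have : 2 ^ (2 * q) - 1 = (2 ^ q + 1) * (2 ^ q - 1) := by
      rw [← Nat.sq_sub_sq, ← pow_mul, mul_comm q 2, one_pow]
    rw [this]
    exact Dvd.dvd.mul_right hld _
  have hgcd := Nat.pow_sub_one_gcd_pow_sub_one 2 s (2 * q)
  rw [← hls, Nat.gcd_eq_left h2q] at hgcd
  have hs' : Nat.gcd s (2 * q) = s := by
    apply Nat.pow_right_injective (le_refl 2)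
    show 2 ^ _ = 2 ^ _
    have h1 : 1 ≤ 2 ^ Nat.gcd s (2 * q) := Nat.one_le_two_pow
    omega
  have hsd : s ∣ 2 * q := Nat.gcd_eq_left_iff_dvd.1 hs'
  obtain ⟨a, b, ha, hb, hab⟩ := (Nat.dvd_mul).1 hsd
  have ha' := (Nat.dvd_prime Nat.prime_two).1 ha
  have hb' := (Nat.dvd_prime hq).1 hb
  rcases ha' with rfl | rfl <;> rcases hb' with rfl | rfl
  · subst hab; norm_num at hs; omega
  · -- `s = q`
    rw [one_mul] at hab
    subst hab
    have h1 : l ∣ 2 := by
      have h2 : 2 ^ b + 1 = (2 ^ b - 1) + 2 := by omega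
      rw [h2, ← hls] at hld
      exact (Nat.dvd_add_right (dvd_refl l)).1 hld
    have := Nat.le_of_dvd (by norm_num) h1
    omega
  · subst hab; norm_num at hs; omega
  · subst hab
    have h1 := Nat.le_of_dvd (by omega) hld
    have h2 : 2 ^ (2 * b) = 2 ^ b * 2 ^ b := by rw [two_mul, pow_add]
    rw [h2] at hs
    nlinarith

/-- `PSL₂(2 ^ q)`. -/
theorem even {F : Type} [Field F] [Fintype F] {q : ℕ} (hq : q.Prime) (hF : Fintype.card F = 2 ^ q)
    {f : G →* ProjectiveSpecialLinearGroup (Fin 2) F} {r : ℕ} (S : Setup f r) : False := by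
  have heven : Even (Fintype.card F) := by
    rw [hF]; exact (even_two).pow_of_ne_zero hq.ne_zero
  have hcard := ClassicalGeometry.PSL2Basic.card_PSL2_even F heven
  rw [hF] at hcard
  by_cases h2 : q = 2
  · subst h2
    have h60 : Nat.card (ProjectiveSpecialLinearGroup (Fin 2) F) = 60 := by rw [hcard]; norm_num
    refine S.false_of_primes (l₁ := 5) (l₂ := 3) (by norm_num) Nat.prime_three le_rfl (by norm_num)
      (by norm_num) ?_ (by rw [h60]; norm_num) (by rw [h60]; norm_num)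
    intro s hs
    have h1 : s < 3 := by
      by_contra hcon
      have : 2 ^ 3 ≤ 2 ^ s := Nat.pow_le_pow_right (by norm_num) (by omega)
      omega
    interval_cases s <;> omega
  by_cases h3 : q = 3
  · subst h3
    have h504 : Nat.card (ProjectiveSpecialLinearGroup (Fin 2) F) = 504 := by rw [hcard]; norm_num
    obtain ⟨C, H, -, -, hcyc, hC9, -, -⟩ := ClassicalGeometry.PSLTorus.exists_psl_torus F
    have h9 : Nat.card C = 9 := by rw [hC9, hF]; norm_num
    obtain ⟨c, hc⟩ := hcyc.exists_generator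
    have hoc : orderOf c = 9 := by rw [orderOf_eq_card_of_forall_mem_zpowers hc, h9]
    obtain ⟨y, hy⟩ := S.surj c
    have hoy : orderOf (f y) = 9 := by rw [hy, orderOf_coe, hoc]
    refine S.false_of_nine (by rw [h504]; norm_num) (y := y)
      (by rw [← hoy, pow_orderOf_eq_one]) ?_
    intro h
    have := orderOf_dvd_of_pow_eq_one h
    rw [hoy] at this
    omega
  · have h5 : 5 ≤ q := by
      have := hq.two_le
      by_contra hcon
      have : q = 4 := by omega
      subst this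
      exact absurd hq (by norm_num)
    obtain ⟨h3d, l, hl, hl5, hld, hM⟩ := exists_prime hq h5
    have hd : (2 ^ q + 1) ∣ Nat.card (ProjectiveSpecialLinearGroup (Fin 2) F) := by
      rw [hcard]
      have : (2 ^ q) ^ 2 - 1 = (2 ^ q + 1) * (2 ^ q - 1) := by
        have := Nat.sq_sub_sq (2 ^ q) 1
        rwa [one_pow] at this
      rw [this]
      exact Dvd.dvd.mul_left (Dvd.intro _ rfl) _
    exact S.false_of_primes (l₁ := l) (l₂ := 3) hl Nat.prime_three hl5 (by norm_num) (by omega) hM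
      (hld.trans hd) (h3d.trans hd)

end Cfsg.Agent.H604.AcdCaseB
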