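import Mathlib
import Cfsg.Agent.H604.Acd
import Cfsg.Agent.Blocks.Over

/-!
# Consequences of `dd H ≤ 0` for subgroups
-/

set_option autoImplicit false
open Cfsg

namespace Cfsg.Agent.H604.AcdGrp

open Cfsg.Agent.Characters.Core Cfsg.Agent.H604.Acd
open Subgroup

universe u

/-- If `dd G ≤ 0` then the degrees are at most `|G : G'| + 2`. -/
theorem deg_le {G : Type u} [Group G] [Finite G] (h : dd G ≤ 0) (χ : IrrCharacter G) :
    charDegree (χ : G → ℂ) ≤ (commutator G).index + 2 := by
  classical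
  have hfin : Finite (IrrCharacter G) := finite_irr
  have := Fintype.ofFinite (IrrCharacter G)
  by_cases hχ : charDegree (χ : G → ℂ) = 1
  · omega
  have h1 := h
  rw [dd_eq, ← Finset.sum_filter_add_sum_filter_not Finset.univ
      (fun χ : IrrCharacter G => charDegree (χ : G → ℂ) = 1)] at h1
  rw [Finset.sum_congr rfl (g := fun _ => (-1 : ℤ)) (fun χ hχ => by
        rw [(Finset.mem_filter.1 hχ).2]; rfl), Finset.sum_const, card_linear] at h1
  have h2 : ((charDegree (χ : G → ℂ) : ℤ) - 2) ≤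
      ∑ χ ∈ Finset.univ.filter (fun χ : IrrCharacter G => ¬ charDegree (χ : G → ℂ) = 1),
        ((charDegree (χ : G → ℂ) : ℤ) - 2) := by
    refine Finset.single_le_sum (f := fun χ : IrrCharacter G =>
      ((charDegree (χ : G → ℂ) : ℤ) - 2)) (fun ψ hψ => ?_)
      (Finset.mem_filter.2 ⟨Finset.mem_univ χ, hχ⟩)
    have e1 := (Finset.mem_filter.1 hψ).2
    have e2 := deg_pos ψ
    omega
  simp only [nsmul_eq_mul, mul_neg, mul_one] at h1
  omega

/-- The main bound for `A⟨b⟩`, with `A` abelian, normalized by `b`, and `b ^ l ∈ A`. -/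
theorem gen_bound {G : Type u} [Group G] [Finite G] (A : Subgroup G)
    (hA : ∀ a ∈ A, ∀ a' ∈ A, a * a' = a' * a) (b : G) (hb : ∀ a ∈ A, b * a * b⁻¹ ∈ A) {l : ℕ}
    (hl : l.Prime) (h3 : 3 ≤ l) (hbl : b ^ l ∈ A) (hbA : b ∉ A)
    (h : dd ↥(A ⊔ zpowers b) ≤ 0) :
    (l - 2) * (centralizer ({b} : Set G)).relIndex A ≤ (l + 2) * (l - 1) := by
  classical
  set H := A ⊔ zpowers b with hH
  have hAH : A ≤ H := le_sup_left
  have hbH : b ∈ H := (le_sup_right : zpowers b ≤ H) (mem_zpowers b)
  let b' : H := ⟨b, hbH⟩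
  have hH : H ≤ normalizer (A : Set G) := by
    refine sup_le le_normalizer ?_
    rw [zpowers_le]
    -- `b` normalizes `A`
    have hsub : A.map (MulAut.conj b).toMonoidHom ≤ A := by
      rintro _ ⟨a, ha, rfl⟩
      exact hb a ha
    have hcard : Nat.card (A.map (MulAut.conj b).toMonoidHom) = Nat.card A :=
      Nat.card_congr (A.equivMapOfInjective _ (MulAut.conj b).injective).toEquiv.symm
    have heq : A.map (MulAut.conj b).toMonoidHom = A :=
      Subgroup.eq_of_le_of_card_ge hsub hcard.ge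
    rw [mem_normalizer_iff_map_conj_eq]
    exact heq
  have hn : (A.subgroupOf H).Normal := normal_subgroupOf_of_le_normalizer hH
  have hab : ∀ x ∈ A.subgroupOf H, ∀ y ∈ A.subgroupOf H, x * y = y * x := fun x hx y hy =>
    Subtype.ext (hA x hx y hy)
  -- the index
  let π := QuotientGroup.mk' (A.subgroupOf H)
  have htop : zpowers (π b') = ⊤ := by
    have h1 : H ≤ ((zpowers (π b')).comap π).map H.subtype := by
      refine sup_le ?_ ?_
      · intro a ha
        refine ⟨⟨a, hAH ha⟩, ?_, rfl⟩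
        show π ⟨a, hAH ha⟩ ∈ zpowers (π b')
        have : π ⟨a, hAH ha⟩ = 1 := (QuotientGroup.eq_one_iff _).2 ha
        rw [this]
        exact one_mem _
      · rw [zpowers_le]
        exact ⟨b', mem_zpowers (π b'), rfl⟩
    rw [eq_top_iff]
    intro x _
    obtain ⟨y, rfl⟩ := QuotientGroup.mk'_surjective _ x
    obtain ⟨z, hz, hzy⟩ := h1 y.2
    have : z = y := Subtype.ext hzy
    rw [← this]
    exact hz
  have hπl : π b' ^ l = 1 := by
    rw [← map_pow]
    exact (QuotientGroup.eq_one_iff _).2 hbl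
  have hπ1 : π b' ≠ 1 := by
    intro h0
    exact hbA ((QuotientGroup.eq_one_iff (N := A.subgroupOf H) b').1 h0)
  have hi : (A.subgroupOf H).index = l := by
    have h1 : orderOf (π b') = l := by
      rcases (Nat.dvd_prime hl).1 (orderOf_dvd_of_pow_eq_one hπl) with h0 | h0
      · exact absurd (orderOf_eq_one_iff.1 h0) hπ1
      · exact h0
    rw [← h1, ← Nat.card_zpowers, htop]
    exact (Nat.card_congr topEquiv.toEquiv).symm
  have hmain := prime_index (A.subgroupOf H) hab hl h3 hi h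
  -- the commutator map
  let κ : A →* A :=
    { toFun := fun a => ⟨b * a * b⁻¹ * (a : G)⁻¹, A.mul_mem (hb a a.2) (A.inv_mem a.2)⟩
      map_one' := Subtype.ext (by simp)
      map_mul' := fun a a' => Subtype.ext (by
        show b * (a * a') * b⁻¹ * ((a : G) * a')⁻¹ =
          (b * a * b⁻¹ * (a : G)⁻¹) * (b * a' * b⁻¹ * (a' : G)⁻¹)
        have e1 : (a : G)⁻¹ * (b * a' * b⁻¹ * (a' : G)⁻¹) = (b * a' * b⁻¹ * (a' : G)⁻¹) * (a : G)⁻¹ :=
          hA _ (A.inv_mem a.2) _ (A.mul_mem (hb a' a'.2) (A.inv_mem a'.2))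
        calc b * (a * a') * b⁻¹ * ((a : G) * a')⁻¹ =
            b * a * b⁻¹ * ((b * a' * b⁻¹ * (a' : G)⁻¹) * (a : G)⁻¹) := by group
          _ = b * a * b⁻¹ * ((a : G)⁻¹ * (b * a' * b⁻¹ * (a' : G)⁻¹)) := by rw [e1]
          _ = _ := by group) }
  have hker : (centralizer ({b} : Set G)).subgroupOf A = κ.ker := by
    ext a
    rw [mem_subgroupOf, mem_centralizer_singleton_iff, MonoidHom.mem_ker]
    constructor
    · intro h0
      apply Subtype.ext
      show b * a * b⁻¹ * (a : G)⁻¹ = 1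
      rw [← h0]; group
    · intro h0
      have h1 : b * a * b⁻¹ * (a : G)⁻¹ = 1 := congrArg Subtype.val h0
      calc (a : G) * b = 1 * (a * b) := by group
        _ = (b * a * b⁻¹ * (a : G)⁻¹) * (a * b) := by rw [h1]
        _ = b * a := by group
  have hle : (centralizer ({b} : Set G)).relIndex A ≤ Nat.card (commutator H) := by
    have h1 : (centralizer ({b} : Set G)).relIndex A = Nat.card κ.range := by
      rw [relIndex, hker, index_ker]
    rw [h1]
    refine Nat.card_le_card_of_injective (fun x : κ.range =>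
      (⟨⟨(x.1 : G), hAH x.1.2⟩, ?_⟩ : commutator H)) ?_
    · obtain ⟨x, a, rfl⟩ := x
      have : (⟨((κ a : A) : G), hAH (κ a).2⟩ : H) =
          b' * ⟨a, hAH a.2⟩ * b'⁻¹ * (⟨a, hAH a.2⟩ : H)⁻¹ := rfl
      rw [this]
      exact commutator_mem_commutator (mem_top _) (mem_top _)
    · intro x y hxy
      have h2 : (x.1 : G) = y.1 := congrArg (fun z : commutator H => ((z : H) : G)) hxy
      exact Subtype.ext (Subtype.ext h2)
  exact (Nat.mul_le_mul_left _ hle).trans hmain

end Cfsg.Agent.H604.AcdGrp
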