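import Mathlib
import Cfsg.Agent.H604.Acd
import Cfsg.Agent.HKS.CaseThreeAux

/-!
# Perfect groups have `0 < dd`
-/

set_option autoImplicit false
open Cfsg

namespace Cfsg.Agent.H604.AcdMin

open Cfsg.Agent.Characters.Core Cfsg.Agent.H604.Acd
open Subgroup

universe u

/-- A nontrivial perfect group has average character degree greater than two. -/
theorem pos_of_perfect {G : Type u} [Group G] [Finite G] [Nontrivial G]
    (hG : commutator G = ⊤) : 0 < dd G := by
  classical
  have hfin : Finite (IrrCharacter G) := finite_irr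
  have := Fintype.ofFinite (IrrCharacter G)
  by_contra hcon
  push Not at hcon
  have hsq := sum_sq (G := G)
  have h1 := hcon
  rw [dd_eq, ← Finset.sum_filter_add_sum_filter_not Finset.univ
      (fun χ : IrrCharacter G => charDegree (χ : G → ℂ) = 1)] at h1
  rw [Finset.sum_congr rfl (g := fun _ => (-1 : ℤ)) (fun χ hχ => by
        rw [(Finset.mem_filter.1 hχ).2]; rfl), Finset.sum_const, card_linear, hG, index_top] at h1
  rw [← Finset.sum_filter_add_sum_filter_not Finset.univ
      (fun χ : IrrCharacter G => charDegree (χ : G → ℂ) = 1)] at hsq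
  rw [Finset.sum_congr rfl (g := fun _ => 1) (fun χ hχ => by
        rw [(Finset.mem_filter.1 hχ).2]; rfl), Finset.sum_const, card_linear, hG, index_top] at hsq
  set B := Finset.univ.filter (fun χ : IrrCharacter G => ¬ charDegree (χ : G → ℂ) = 1) with hB
  have h2 : ∀ χ ∈ B, 2 ≤ charDegree (χ : G → ℂ) := fun χ hχ => by
    have e1 := (Finset.mem_filter.1 hχ).2
    have e2 := deg_pos χ
    omega
  have h3 : ∀ χ ∈ B, charDegree (χ : G → ℂ) ≤ 3 := fun χ hχ => by
    have := Finset.single_le_sum (f := fun χ : IrrCharacter G =>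
      ((charDegree (χ : G → ℂ) : ℤ) - 2)) (s := B) (fun ψ hψ => by
        have := h2 ψ hψ
        omega) hχ
    simp only [one_smul] at h1
    omega
  simp only [one_smul, smul_eq_mul, mul_one] at h1 hsq
  -- squares of the degrees
  have h4 : ∑ χ ∈ B, ((charDegree (χ : G → ℂ) : ℤ) ^ 2) =
      4 * (B.card : ℤ) + 5 * ∑ χ ∈ B, ((charDegree (χ : G → ℂ) : ℤ) - 2) := by
    rw [Finset.mul_sum, mul_comm, ← nsmul_eq_mul, ← Finset.sum_const, ← Finset.sum_add_distrib]
    refine Finset.sum_congr rfl fun χ hχ => ?_
    have e1 := h2 χ hχ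
    have e2 := h3 χ hχ
    obtain h | h : charDegree (χ : G → ℂ) = 2 ∨ charDegree (χ : G → ℂ) = 3 := by omega
    · rw [h]; norm_num
    · rw [h]; norm_num
  have h5 : (0 : ℤ) ≤ ∑ χ ∈ B, ((charDegree (χ : G → ℂ) : ℤ) - 2) :=
    Finset.sum_nonneg fun χ hχ => by
      have := h2 χ hχ
      omega
  have h6 : (Nat.card G : ℤ) = 1 + (4 * (B.card : ℤ) +
      5 * ∑ χ ∈ B, ((charDegree (χ : G → ℂ) : ℤ) - 2)) := by
    rw [← h4, ← hsq]
    push_cast
    ring
  set m := ∑ χ ∈ B, ((charDegree (χ : G → ℂ) : ℤ) - 2) with hm
  have h7 : m = 0 ∨ m = 1 := by omega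
  by_cases hev : Even (Nat.card G)
  · -- the regular representation
    have hsgn : ∀ (f : G →* ℤˣ) (g : G), f g = 1 := by
      intro f g
      have h8 := Abelianization.commutator_subset_ker f
      rw [hG] at h8
      exact MonoidHom.mem_ker.1 (h8 (mem_top g))
    obtain ⟨t, ht⟩ := exists_prime_orderOf_dvd_card' 2 hev.two_dvd
    have ht1 : t * t = 1 := by rw [← sq, ← ht, pow_orderOf_eq_one]
    have h9 := HKS.CaseThree.four_dvd_of_action (β := G) hsgn ht1
    have h10 : Nat.card {x : G // t • x = x} = 0 := by
      rw [Nat.card_eq_zero]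
      left
      refine ⟨fun x => ?_⟩
      have h11 : t * x.1 = x.1 := x.2
      have h12 : t = 1 := by simpa using h11
      rw [h12, orderOf_one] at ht
      omega
    rw [h10, Nat.sub_zero] at h9
    omega
  · rw [Nat.not_even_iff_odd] at hev
    -- the degrees are odd
    have h8 : ∀ χ ∈ B, charDegree (χ : G → ℂ) = 3 := fun χ hχ => by
      have e1 := deg_dvd_index (⊥ : Subgroup G) (fun a ha b hb => by
        rw [mem_bot.1 ha, mem_bot.1 hb]) χ
      rw [index_bot] at e1
      have e2 := h2 χ hχ
      have e3 := h3 χ hχ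
      rcases (show charDegree (χ : G → ℂ) = 2 ∨ charDegree (χ : G → ℂ) = 3 by omega) with h | h
      · rw [h] at e1
        exact absurd (even_iff_two_dvd.2 e1) (Nat.not_even_iff_odd.2 hev)
      · exact h
    have h9 : m = B.card := by
      rw [hm, Finset.sum_congr rfl (g := fun _ => (1 : ℤ)) (fun χ hχ => by rw [h8 χ hχ]; rfl)]
      simp
    have h10 : 1 < Nat.card G := Finite.one_lt_card
    obtain ⟨r, hr⟩ := hev
    omega

/-- A group all of whose proper subgroups satisfy `dd ≤ 0` has only solvable proper subgroups. -/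
theorem isSolvable {G : Type u} [Group G] [Finite G] (h : ∀ H : Subgroup G, H ≠ ⊤ → dd H ≤ 0) :
    ∀ (n : ℕ) (H : Subgroup G), Nat.card H = n → H ≠ ⊤ → Group.IsSolvable H := by
  intro n
  induction n using Nat.strong_induction_on with
  | _ n ih =>
    intro H hn hH
    by_cases hc : commutator H = ⊤
    · rcases subsingleton_or_nontrivial H with hs | hs
      · infer_instance
      · exact absurd (h H hH) (not_le.2 (pos_of_perfect hc))
    · set K := (commutator H).map H.subtype with hK
      have hKH : K ≤ H := map_subtype_le _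
      have hcard : Nat.card K < n := by
        rw [← hn, hK, card_map_of_injective H.subtype_injective]
        have h1 := card_mul_index (commutator H)
        have h2 : (commutator H).index ≠ 1 := fun h3 => hc (index_eq_one.1 h3)
        have h3 : (commutator H).index ≠ 0 := index_ne_zero_of_finite
        have h4 : 0 < Nat.card (commutator H) := Nat.card_pos
        rw [← h1]
        calc Nat.card (commutator H) = Nat.card (commutator H) * 1 := (mul_one _).symm
          _ < _ := Nat.mul_lt_mul_of_pos_left (by omega) h4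
      have hKt : K ≠ ⊤ := fun h0 => hH (top_le_iff.1 (h0 ▸ hKH))
      have h1 := ih _ hcard K rfl hKt
      have h2 : Group.IsSolvable (commutator H) :=
        Group.isSolvable_of_isSolvable_injective
          (f := ((commutator H).equivMapOfInjective _ H.subtype_injective).toMonoidHom)
          (MulEquiv.injective _)
      have h3 : Group.IsSolvable (H ⧸ commutator H) := Group.isSolvable_of_comm
        (fun a b => (inferInstance : IsMulCommutative (Abelianization H)).is_comm.comm a b)
      exact (Group.isSolvable_iff_subgroup_quotient (commutator H)).2 ⟨h2, h3⟩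

end Cfsg.Agent.H604.AcdMin
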