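import Mathlib
import Cfsg.Agent.H604.AcdTools
import Cfsg.Agent.H604.AcdPsl3
import Cfsg.Agent.Classification.MinSimpleStrong
import Cfsg.Agent.OddCyclic.ClaimC.SzIso
import Cfsg.Agent.OddCyclic.T1Socle
import Cfsg.Agent.LieClassical.FieldTransfer
import Cfsg.Agent.S0333

/-!
# The simple groups all of whose proper subgroups satisfy `dd ≤ 0`
-/

set_option autoImplicit false
open Cfsg

namespace Cfsg.Agent.H604.AcdSimple

open Cfsg.Agent.H604.Acd Cfsg.Agent.H604.AcdTools
open Subgroup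

universe u v

theorem not_solvable_congr {G : Type u} {K : Type v} [Group G] [Group K] (e : G ≃* K)
    (h : ¬ Group.IsSolvable G) : ¬ Group.IsSolvable K := fun _ =>
  h (Group.isSolvable_of_isSolvable_injective (f := e.toMonoidHom) e.injective)

/-- The simple case. -/
theorem main {G : Type u} [Group G] [Finite G] (hs : IsSimpleGroup G) (hG : ¬ Group.IsSolvable G)
    (hyp : Hyp G) : Nonempty (G ≃* Matrix.ProjectiveSpecialLinearGroup (Fin 2) (ZMod 7)) ∨
      (∃ (F : Type) (_ : Field F) (_ : Fintype F) (q : ℕ), q.Prime ∧ Fintype.card F = 2 ^ q ∧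
        Nonempty (G ≃* Matrix.ProjectiveSpecialLinearGroup (Fin 2) F)) := by
  have hmin : IsMinimalSimple G := by
    refine ⟨hs, fun h => hG ?_, fun H hH => hyp.solvable H hH⟩
    exact Group.isSolvable_of_comm h.is_comm.comm
  rcases Classification.MinSimpleStrong.concl hmin with
    ⟨p, hp, F, _, _, hF, ⟨e⟩⟩ | ⟨p, hp, hp2, F, _, _, hF, ⟨e⟩⟩ | ⟨p, hp, h5, F, _, _, hF, ⟨e⟩⟩ |
    ⟨F, _, _, hF, ⟨e⟩⟩ | ⟨F, _, _, m, hm, -, hF, ⟨e⟩⟩
  · exact Or.inr ⟨F, _, _, p, hp, hF, ⟨e⟩⟩
  · -- `3 ^ p`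
    exfalso
    have h9 : 9 < Nat.card F := by
      rw [Nat.card_eq_fintype_card, hF]
      calc 9 = 3 ^ 2 := by norm_num
        _ < 3 ^ p := Nat.pow_lt_pow_right (by norm_num) (lt_of_le_of_ne hp.two_le (Ne.symm hp2))
    have h2 : (2 : F) ≠ 0 := by
      intro h0
      have hc : CharP F 2 := CharTwo.of_one_ne_zero_of_two_eq_zero one_ne_zero h0
      have h3 : Fact (Nat.Prime 3) := ⟨Nat.prime_three⟩
      have h4 : CharP F 3 := charP_of_card_eq_prime_pow hF
      exact absurd (CharP.eq F hc h4) (by norm_num)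
    obtain ⟨R, hR, hR0⟩ := AcdBorel.exists_borel h2 h9
    exact absurd ((hyp.congr e) R hR) (not_le.2 hR0)
  · have hFp : Fact p.Prime := ⟨hp⟩
    rcases h5 with rfl | ⟨h5, h23⟩
    · obtain ⟨K, _, _, _, hK, ⟨f⟩⟩ := OddCyclic.T1Socle.exists_four hF
      have hfact : Fact (Nat.Prime 2) := ⟨Nat.prime_two⟩
      obtain ⟨g⟩ := WeakTI.PslTwo.nonempty_equiv (F := K)
      exact Or.inr ⟨K, _, _, 2, Nat.prime_two, hK, ⟨(e.trans f).trans g⟩⟩
    · by_cases h7 : p = 7
      · subst h7
        left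
        have hc : Fintype.card F = Fintype.card (ZMod 7) := by rw [hF, ZMod.card]
        exact ⟨e.trans (LieClassical.FieldTransfer.pslCongr (FiniteField.ringEquivOfCardEq hc))⟩
      · exfalso
        have h9 : 9 < Nat.card F := by
          rw [Nat.card_eq_fintype_card, hF]
          by_contra hcon
          have : p ≤ 9 := by omega
          interval_cases p <;> revert hp h7 <;> decide
        have h2 : (2 : F) ≠ 0 := by
          intro h0
          have hc : CharP F 2 := CharTwo.of_one_ne_zero_of_two_eq_zero one_ne_zero h0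
          have h4 : CharP F p := charP_of_card_eq_prime_pow (f := 1) (by rw [hF, pow_one])
          have := CharP.eq F hc h4
          omega
        obtain ⟨R, hR, hR0⟩ := AcdBorel.exists_borel h2 h9
        exact absurd ((hyp.congr e) R hR) (not_le.2 hR0)
  · exfalso
    have hc : Fintype.card F = Fintype.card (ZMod 3) := by rw [hF, ZMod.card]
    have e' := e.trans (LieClassical.FieldTransfer.pslCongr (FiniteField.ringEquivOfCardEq hc))
    obtain ⟨a, b, ha, ha1, hb, hab⟩ := AcdPsl3.exists_frob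
    exact excl_thirteen (hyp.congr e') (not_solvable_congr e' hG) ha ha1 hb hab
  · exfalso
    obtain ⟨f⟩ := OddCyclic.ClaimC.SzIso.iso hm hF
    have e' := e.trans f.symm
    obtain ⟨U, hUc, hUk, hC, hN⟩ := Cfsg.Agent.S0333.result hm hF _ (Or.inl rfl)
    obtain ⟨n, rfl⟩ : ∃ n, m = n + 1 := ⟨m - 1, by omega⟩
    refine excl_four (hyp.congr e') (not_solvable_congr e' hG) U hUc hC
      (j := 2 ^ (2 * n + 1) + 2 ^ n) ?_ ?_ (by rw [hN, hUk])
    · rw [hUk]
      ring
    · have h1 : 1 ≤ 2 ^ n := Nat.one_le_two_pow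
      have h2 : 2 ^ (2 * n + 1) = 2 * (2 ^ n * 2 ^ n) := by ring
      nlinarith

end Cfsg.Agent.H604.AcdSimple
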